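import Groth.Agent.Fixpt.H906.SecTot
import Groth.Agent.Desc.EtAssocAff
import Groth.Agent.PerfC.TildePush
import Groth.Agent.PerfC.AffPushD
import Groth.Agent.PerfB.BCPush

/-!
# Semilinear maps of complexes of modules as arrows over `Spec S ⟶ Spec R`

For `φ : R ⟶ S`, complexes `F` of `R`-modules and `F'` of `S`-modules and a semilinear map `F → F'`, given as a
morphism `f : F ⟶ rs φ F'`, `ar φ f` is the arrow from `(Spec S, F'~)` to `(Spec R, F~)` in the total category of
complexes of modules on schemes.  Such arrows are determined by their action on global sections.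
-/

set_option autoImplicit false

universe u

open CategoryTheory CategoryTheory.Limits AlgebraicGeometry Opposite TopologicalSpace

attribute [local instance] HasDerivedCategory.standard

namespace K225.AffArr

open Groth.Agent.PerfB.BCTot Groth.Agent.PerfB.BCTot.Tot Groth.Agent.PerfB.BCMod
  Groth.Agent.PerfB.BCCx Groth.Agent.PerfB.BCSch Groth.Agent.PerfB.BCPush
open Groth.Agent.Sga67.Sec Groth.Agent.Fixpt.H906.SecTot
open Groth.Agent.PerfC.TildePush Groth.Agent.Krr.H487.LocBasisPull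

/-- The global section of `M~` given by an element of `M`. -/
noncomputable def ts {R : CommRingCat.{u}} {M : ModuleCat.{u} R} (m : M) : Sec (tilde M) (⊤ : (Spec R).Opens) :=
  (tilde.isoTop M).hom.hom m

section

variable {R S : CommRingCat.{u}} (φ : R ⟶ S)

lemma appS_map {M N : ModuleCat.{u} R} (f : M ⟶ N) (m : M) :
    appS ((tilde.functor R).map f) ⊤ (ts m) = ts (f.hom m) := by
  have h := tilde.toOpen_map_app f (⊤ : (Spec R).Opens)
  exact congrArg (fun k : _ ⟶ _ => (ConcreteCategory.hom k) m) h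

lemma appS_fromTildeΓ (N : (Spec R).Modules) (m : (moduleSpecΓFunctor (R := R)).obj N) :
    appS (Scheme.Modules.fromTildeΓ N) ⊤ (ts (M := (moduleSpecΓFunctor (R := R)).obj N) m) =
      (show Sec N (⊤ : (Spec R).Opens) from m) :=
  Groth.Agent.Desc.EtAssocAff.isoTop_fromTildeΓ N m

lemma appS_inv (M : ModuleCat.{u} S) (m : M) :
    appS ((tildePushIso φ).inv.app M) ⊤ (ts (M := (ModuleCat.restrictScalars φ.hom).obj M) m) =
      (ts m : Sec (tilde M) (⊤ : (Spec S).Opens)) := by
  have h : (tildePushIso φ).inv.app M = (tilde.functor R).map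
      ((ModuleCat.restrictScalars φ.hom).map (tilde.isoTop M).hom) ≫
      (tilde.functor R).map ((Groth.Agent.Ega1.TildePullback.pushforwardCompΓIso φ).inv.app (tilde M)) ≫
      Scheme.Modules.fromTildeΓ _ := by
    simp [tildePushIso, tilde.toTildeΓNatIso]
    rfl
  rw [h]
  refine (appS_comp _ _ _ _).trans ?_
  refine (congrArg _ (appS_map _ _)).trans ?_
  refine (appS_comp _ _ _ _).trans ?_
  refine (congrArg _ (appS_map _ _)).trans ?_
  refine (appS_fromTildeΓ _ _).trans ?_
  rfl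

/-- Morphisms out of `M~` are determined by their action on the sections `ts m`. -/
lemma tilde_hom_ext {M : ModuleCat.{u} R} {N : (Spec R).Modules} {f g : (tilde.functor R).obj M ⟶ N}
    (h : ∀ m : M, appS f ⊤ (ts m) = appS g ⊤ (ts m)) : f = g := by
  apply ((tilde.adjunction (R := R)).homEquiv _ _).injective
  rw [Adjunction.homEquiv_unit, Adjunction.homEquiv_unit]
  ext m
  exact h m

/-- Restriction of scalars on complexes. -/
noncomputable abbrev rs : CochainComplex (ModuleCat.{u} S) ℤ ⥤ CochainComplex (ModuleCat.{u} R) ℤ :=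
  (ModuleCat.restrictScalars φ.hom).mapHomologicalComplex (ComplexShape.up ℤ)

/-- The complex of sheaves associated to a complex of modules. -/
noncomputable abbrev tcx (R : CommRingCat.{u}) :
    CochainComplex (ModuleCat.{u} R) ℤ ⥤ CochainComplex (Spec R).Modules ℤ :=
  (tilde.functor R).mapHomologicalComplex (ComplexShape.up ℤ)

/-- `(F'|_R)~ ≅ f_* (F'~)` for `f = Spec φ`. -/
noncomputable def gcx (F' : CochainComplex (ModuleCat.{u} S) ℤ) :
    (tcx R).obj ((rs φ).obj F') ⟶
      ((Scheme.Modules.pushforward (Spec.map φ)).mapHomologicalComplex (ComplexShape.up ℤ)).obj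
        ((tcx S).obj F') where
  f i := (tildePushIso φ).inv.app (F'.X i)
  comm' i j _ := ((tildePushIso φ).inv.naturality (F'.d i j)).symm

instance (F' : CochainComplex (ModuleCat.{u} S) ℤ) : IsIso (gcx φ F') := by
  have : ∀ i, IsIso ((gcx φ F').f i) := fun i =>
    inferInstanceAs (IsIso ((tildePushIso φ).symm.app (F'.X i)).hom)
  exact HomologicalComplex.Hom.isIso_of_components _

/-- The canonical arrow. -/
noncomputable def κ (F' : CochainComplex (ModuleCat.{u} S) ℤ) :
    (⟨Spec S, (tcx S).obj F'⟩ : Tot cxMod.{u}) ⟶ ⟨Spec R, (tcx R).obj ((rs φ).obj F')⟩ :=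
  cocartLift (P := cxMod.{u}) (Spec.map φ) (cAdj (Spec.map φ)) ((tcx S).obj F') ≫ ver (gcx φ F')

/-- The arrow of a semilinear map. -/
noncomputable def ar {F : CochainComplex (ModuleCat.{u} R) ℤ} {F' : CochainComplex (ModuleCat.{u} S) ℤ}
    (f : F ⟶ (rs φ).obj F') : (⟨Spec S, (tcx S).obj F'⟩ : Tot cxMod.{u}) ⟶ ⟨Spec R, (tcx R).obj F⟩ :=
  κ φ F' ≫ ver ((tcx R).map f)

/-- The action of an arrow on global sections. -/
noncomputable def sc {A B : Tot cxMod.{u}} (m : A ⟶ B) (i : ℤ) :
    Sec (B.fib.X i) (⊤ : B.base.Opens) →+ Sec (A.fib.X i) (⊤ : A.base.Opens) :=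
  sec ((evalMap modPull i).tot.map m) (V := ⊤)

lemma sc_comp {A B C : Tot cxMod.{u}} (m : A ⟶ B) (n : B ⟶ C) (i : ℤ) (s : Sec (C.fib.X i) (⊤ : C.base.Opens)) :
    sc (m ≫ n) i s = sc m i (sc n i s) := by
  unfold sc
  rw [Functor.map_comp]
  exact sec_comp _ _ _

lemma sc_ver {X : Scheme.{u}} {K L : CochainComplex X.Modules ℤ} (f : K ⟶ L) (i : ℤ)
    (s : Sec (K.X i) (⊤ : X.Opens)) : sc (ver (P := cxMod.{u}) f) i s = appS (f.f i) ⊤ s := by
  unfold sc
  rw [PullMap.tot_map_ver]
  exact sec_ver _ _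

lemma sc_cocartLift {X Y : Scheme.{u}} (f : X ⟶ Y) (K : CochainComplex X.Modules ℤ) (i : ℤ)
    (s : Sec (K.X i) (⊤ : X.Opens)) : sc (cocartLift (P := cxMod.{u}) f (cAdj f) K) i
      (show Sec ((Scheme.Modules.pushforward f).obj (K.X i)) (⊤ : Y.Opens) from s) = s := by
  unfold sc
  rw [eval_cocartLift]
  exact Groth.Agent.Dcoh.MonPull.counit_pb f (V := ⊤) (K.X i) s

lemma sc_κ (F' : CochainComplex (ModuleCat.{u} S) ℤ) (i : ℤ) (x : F'.X i) :
    sc (κ φ F') i (ts (M := (ModuleCat.restrictScalars φ.hom).obj (F'.X i)) x) = ts x := by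
  refine (sc_comp _ _ _ _).trans ?_
  refine (congrArg _ ((sc_ver _ _ _).trans (appS_inv φ (F'.X i) x))).trans ?_
  exact sc_cocartLift (Spec.map φ) ((tcx S).obj F') i (ts x)

/-- The underlying map of a semilinear map. -/
noncomputable def el {F : CochainComplex (ModuleCat.{u} R) ℤ} {F' : CochainComplex (ModuleCat.{u} S) ℤ}
    (f : F ⟶ (rs φ).obj F') (i : ℤ) (x : F.X i) : F'.X i := (f.f i).hom x

lemma sc_ar {F : CochainComplex (ModuleCat.{u} R) ℤ} {F' : CochainComplex (ModuleCat.{u} S) ℤ}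
    (f : F ⟶ (rs φ).obj F') (i : ℤ) (x : F.X i) :
    sc (ar φ f) i (ts x) = ts (M := F'.X i) (el φ f i x) := by
  refine (sc_comp _ _ _ _).trans ?_
  refine (congrArg _ ((sc_ver _ _ _).trans (appS_map (f.f i) x))).trans ?_
  exact sc_κ φ F' i _

lemma ar_base {F : CochainComplex (ModuleCat.{u} R) ℤ} {F' : CochainComplex (ModuleCat.{u} S) ℤ}
    (f : F ⟶ (rs φ).obj F') : (ar φ f).base = Spec.map φ := by
  simp [ar, κ]

/-- Arrows to the complex associated to a complex of modules are determined by their action on sections. -/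
lemma ext_sc {A : Tot cxMod.{u}} {F : CochainComplex (ModuleCat.{u} R) ℤ}
    {m n : A ⟶ (⟨Spec R, (tcx R).obj F⟩ : Tot cxMod.{u})} (e : m.base = n.base)
    (h : ∀ (i : ℤ) (x : F.X i), sc m i (ts x) = sc n i (ts x)) : m = n := by
  obtain ⟨mb, mf⟩ := m
  obtain ⟨nb, nf⟩ := n
  obtain rfl : mb = nb := e
  refine Tot.hom_ext rfl ?_
  simp only [eqToHom_refl, Category.id_comp]
  refine HomologicalComplex.hom_ext _ _ fun i => ?_
  have key : ∀ (N : A.base.Modules) (a b : (Scheme.Modules.pullback mb).obj ((tilde.functor R).obj (F.X i)) ⟶ N),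
      (∀ x : F.X i, appS a ⊤ (pbS mb _ (U := ⊤) (ts x)) = appS b ⊤ (pbS mb _ (U := ⊤) (ts x))) → a = b := by
    intro N a b hab
    apply ((Scheme.Modules.pullbackPushforwardAdjunction mb).homEquiv _ _).injective
    rw [Adjunction.homEquiv_unit, Adjunction.homEquiv_unit]
    refine tilde_hom_ext fun x => ?_
    exact hab x
  refine key _ _ _ fun x => ?_
  have h1 := h i x
  have h2 : ∀ (l : ((Scheme.Modules.pullback mb).mapHomologicalComplex (ComplexShape.up ℤ)).obj
      ((tcx R).obj F) ⟶ A.fib), sc (⟨mb, l⟩ : A ⟶ (⟨Spec R, (tcx R).obj F⟩ : Tot cxMod.{u})) i (ts x) =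
      appS (l.f i) ⊤ (pbS mb _ (U := ⊤) (ts x)) := by
    intro l
    have h3 := evalMap_fib modPull i (⟨mb, l⟩ : A ⟶ (⟨Spec R, (tcx R).obj F⟩ : Tot cxMod.{u}))
    exact congrArg (fun k => appS k ⊤ (pbS mb ((tilde.functor R).obj (F.X i)) (U := ⊤) (ts x))) h3
  exact (h2 mf).symm.trans (h1.trans (h2 nf))

end

end K225.AffArr
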