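import Groth.Agent.FlatMor.K225.AffArr

/-!
# Composition of arrows of semilinear maps; the derived arrows
-/

set_option autoImplicit false

universe u

open CategoryTheory CategoryTheory.Limits AlgebraicGeometry Opposite TopologicalSpace

attribute [local instance] HasDerivedCategory.standard

namespace K225.AffArr

open Groth.Agent.PerfB.BCTot Groth.Agent.PerfB.BCTot.Tot Groth.Agent.PerfB.BCMod
  Groth.Agent.PerfB.BCCx Groth.Agent.PerfB.BCSch Groth.Agent.PerfB.BCPush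
open Groth.Agent.Sga67.Sec Groth.Agent.Fixpt.H906.SecTot
open Groth.Agent.PerfC.TildePush Groth.Agent.Krr.H487.LocBasisPull

attribute [local instance] Groth.Agent.PerfB.BCSch.hasLpull Groth.Agent.Dcoh.DerSch.hasRpush

section Comp

variable {R S T : CommRingCat.{u}} {φ : R ⟶ S} {ψ : S ⟶ T} {θ : R ⟶ T}
  {F : CochainComplex (ModuleCat.{u} R) ℤ} {F' : CochainComplex (ModuleCat.{u} S) ℤ}
  {F'' : CochainComplex (ModuleCat.{u} T) ℤ}

/-- Composition of semilinear maps. -/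
lemma ar_comp (e : φ ≫ ψ = θ) (f : F ⟶ (rs φ).obj F') (g : F' ⟶ (rs ψ).obj F'') (h : F ⟶ (rs θ).obj F'')
    (hfg : ∀ (i : ℤ) (x : F.X i), el θ h i x = el ψ g i (el φ f i x)) :
    ar ψ g ≫ ar φ f = ar θ h := by
  refine ext_sc ?_ fun i x => ?_
  · rw [comp_base, ar_base, ar_base, ar_base, ← e, Spec.map_comp]
  · refine (sc_comp _ _ _ _).trans ?_
    refine (congrArg _ (sc_ar φ f i x)).trans ?_
    refine (sc_ar ψ g i _).trans ?_
    rw [← hfg i x]
    exact (sc_ar θ h i x).symm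

lemma ver_ar {G' : CochainComplex (ModuleCat.{u} S) ℤ} (f : F ⟶ (rs φ).obj F') (k : F' ⟶ G') :
    ver (P := cxMod.{u}) ((tcx S).map k) ≫ ar φ f = ar φ (f ≫ (rs φ).map k) := by
  refine ext_sc ?_ fun i x => ?_
  · rw [comp_base, ar_base, ar_base, ver_base]
    exact Category.id_comp _
  · refine (sc_comp _ _ _ _).trans ?_
    refine (congrArg _ (sc_ar φ f i x)).trans ?_
    refine ((sc_ver _ _ _).trans (appS_map (k.f i) _)).trans ?_
    exact (sc_ar φ (f ≫ (rs φ).map k) i x).symm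

lemma ar_ver {G : CochainComplex (ModuleCat.{u} R) ℤ} (f : F ⟶ (rs φ).obj F') (k : G ⟶ F) :
    ar φ f ≫ ver (P := cxMod.{u}) ((tcx R).map k) = ar φ (k ≫ f) := by
  refine ext_sc ?_ fun i x => ?_
  · rw [comp_base, ar_base, ar_base, ver_base]
    exact Category.comp_id _
  · refine (sc_comp _ _ _ _).trans ?_
    refine (congrArg _ ((sc_ver _ _ _).trans (appS_map (k.f i) x))).trans ?_
    refine (sc_ar φ f i _).trans ?_
    exact (sc_ar φ (k ≫ f) i x).symm

lemma ar_id : ar φ (𝟙 ((rs φ).obj F')) = κ φ F' := by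
  rw [ar, CategoryTheory.Functor.map_id, ver_id, Category.comp_id]

end Comp

section Derived

variable {R S : CommRingCat.{u}} (φ : R ⟶ S)

/-- The arrow of a semilinear map in the derived total category. -/
noncomputable def Θ {F : CochainComplex (ModuleCat.{u} R) ℤ} {F' : CochainComplex (ModuleCat.{u} S) ℤ}
    (f : F ⟶ (rs φ).obj F') :
    (⟨Spec S, DerivedCategory.Q.obj ((tcx S).obj F')⟩ : Tot dPull.{u}) ⟶
      ⟨Spec R, DerivedCategory.Q.obj ((tcx R).obj F)⟩ :=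
  toD.tot.map (ar φ f)

lemma Θ_base {F : CochainComplex (ModuleCat.{u} R) ℤ} {F' : CochainComplex (ModuleCat.{u} S) ℤ}
    (f : F ⟶ (rs φ).obj F') : (Θ φ f).base = Spec.map φ := ar_base φ f

lemma Θ_eq {F : CochainComplex (ModuleCat.{u} R) ℤ} {F' : CochainComplex (ModuleCat.{u} S) ℤ}
    (f : F ⟶ (rs φ).obj F') : Θ φ f = toD.tot.map (κ φ F') ≫
      ver (P := dPull.{u}) (DerivedCategory.Q.map ((tcx R).map f)) := by
  refine (toD.tot.map_comp (κ φ F') (ver ((tcx R).map f))).trans ?_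
  exact congrArg (fun k => toD.tot.map (κ φ F') ≫ k) (PullMap.tot_map_ver toD _)

/-- Homotopic semilinear maps give the same arrow. -/
lemma Θ_congr {F : CochainComplex (ModuleCat.{u} R) ℤ} {F' : CochainComplex (ModuleCat.{u} S) ℤ}
    {f g : F ⟶ (rs φ).obj F'} (h : Homotopy f g) : Θ φ f = Θ φ g := by
  rw [Θ_eq, Θ_eq, DerivedCategory.Q_map_eq_of_homotopy _ ((tilde.functor R).mapHomotopy h)]

lemma Θ_ver {F G : CochainComplex (ModuleCat.{u} R) ℤ} {F' : CochainComplex (ModuleCat.{u} S) ℤ}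
    (f : F ⟶ (rs φ).obj F') (k : G ⟶ F) :
    Θ φ f ≫ ver (P := dPull.{u}) (DerivedCategory.Q.map ((tcx R).map k)) = Θ φ (k ≫ f) := by
  unfold Θ
  rw [← ar_ver, Functor.map_comp]
  exact congrArg (fun t => toD.tot.map (ar φ f) ≫ t) (PullMap.tot_map_ver toD _).symm

lemma ver_Θ {F : CochainComplex (ModuleCat.{u} R) ℤ} {F' G' : CochainComplex (ModuleCat.{u} S) ℤ}
    (f : F ⟶ (rs φ).obj F') (k : F' ⟶ G') :
    ver (P := dPull.{u}) (DerivedCategory.Q.map ((tcx S).map k)) ≫ Θ φ f = Θ φ (f ≫ (rs φ).map k) := by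
  unfold Θ
  rw [← ver_ar, Functor.map_comp]
  exact congrArg (fun t => t ≫ toD.tot.map (ar φ f)) (PullMap.tot_map_ver toD _).symm

lemma Θ_comp {T : CommRingCat.{u}} {φ : R ⟶ S} {ψ : S ⟶ T} {θ : R ⟶ T}
    {F : CochainComplex (ModuleCat.{u} R) ℤ} {F' : CochainComplex (ModuleCat.{u} S) ℤ}
    {F'' : CochainComplex (ModuleCat.{u} T) ℤ} (e : φ ≫ ψ = θ) (f : F ⟶ (rs φ).obj F')
    (g : F' ⟶ (rs ψ).obj F'') (h : F ⟶ (rs θ).obj F'')
    (hfg : ∀ (i : ℤ) (x : F.X i), el θ h i x = el ψ g i (el φ f i x)) :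
    Θ ψ g ≫ Θ φ f = Θ θ h := by
  unfold Θ
  rw [← ar_comp e f g h hfg, Functor.map_comp]
  rfl

/-- The arrow is cocartesian if the semilinear map is bijective. -/
lemma isCocart_Θ {F : CochainComplex (ModuleCat.{u} R) ℤ} {F' : CochainComplex (ModuleCat.{u} S) ℤ}
    (f : F ⟶ (rs φ).obj F') [IsIso f] : IsCocart (Θ φ f) := by
  have h1 : IsCocart (toD.tot.map (cocartLift (P := cxMod.{u}) (Spec.map φ) (cAdj (Spec.map φ))
      ((tcx S).obj F'))) :=
    isCocart_toD (Spec.map φ) _ (Groth.Agent.PerfC.AffPushD.isIso_rpushUnitQ (Spec.map φ) _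
      (fun n => (inferInstance : ((tilde.functor S).obj (F'.X n)).IsQuasicoherent)))
  have h2 : Θ φ f = toD.tot.map (cocartLift (P := cxMod.{u}) (Spec.map φ) (cAdj (Spec.map φ))
      ((tcx S).obj F')) ≫ (toD.tot.map (ver (gcx φ F')) ≫ toD.tot.map (ver ((tcx R).map f))) := by
    unfold Θ ar κ
    rw [Functor.map_comp, Functor.map_comp, Category.assoc]
  rw [h2]
  have h3 : IsIso (ver (P := cxMod.{u}) (gcx φ F')) := isIso_ver _
  have h4 : IsIso (ver (P := cxMod.{u}) ((tcx R).map f)) := isIso_ver _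
  have h5 : IsIso (toD.tot.map (ver (P := cxMod.{u}) (gcx φ F'))) := Functor.map_isIso _ _
  have h6 : IsIso (toD.tot.map (ver (P := cxMod.{u}) ((tcx R).map f))) := Functor.map_isIso _ _
  exact h1.comp (@isCocart_of_isIso _ _ _ _ _ _ _ _ (IsIso.comp_isIso' h5 h6))

end Derived

end K225.AffArr
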