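import Mathlib.Algebra.Homology.ShortComplex.HomologicalComplex
import Mathlib.Algebra.Homology.ShortComplex.ModuleCat
import Mathlib.Algebra.Homology.QuasiIso
import Mathlib.Algebra.Homology.ShortComplex.Exact

/-!
# Quasi-isomorphisms of complexes of modules, elementwise
-/

set_option autoImplicit false

universe v u

open CategoryTheory CategoryTheory.Limits

namespace K225.ModQis

variable {ι : Type*} {c : ComplexShape ι} {R : Type u} [Ring R]
  {K L : HomologicalComplex (ModuleCat.{v} R) c} {j : ι}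

lemma exists_cycle {x : K.X j} (k : ι) (hk : c.next j = k) (hx : (K.d j k).hom x = 0) :
    ∃ z : K.cycles j, (K.iCycles j).hom z = x := by
  have ex : (ShortComplex.mk (K.iCycles j) (K.d j k) (K.iCycles_d j k)).Exact :=
    ShortComplex.exact_of_f_is_kernel _ (K.cyclesIsKernel j k hk)
  rw [ShortComplex.moduleCat_exact_iff] at ex
  exact ex x hx

lemma d_iCycles (z : K.cycles j) (k : ι) : (K.d j k).hom ((K.iCycles j).hom z) = 0 := by
  have := congrArg (fun f => f.hom z) (K.iCycles_d j k)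
  exact this

lemma π_surj (a : K.homology j) : ∃ z, (K.homologyπ j).hom z = a :=
  (ModuleCat.epi_iff_surjective (K.homologyπ j)).1 inferInstance a

lemma i_inj {z z' : K.cycles j} (h : (K.iCycles j).hom z = (K.iCycles j).hom z') : z = z' :=
  (ModuleCat.mono_iff_injective (K.iCycles j)).1 inferInstance h

lemma π_eq_zero_iff (i : ι) (hi : c.prev j = i) (z : K.cycles j) :
    (K.homologyπ j).hom z = 0 ↔ ∃ y : K.X i, (K.d i j).hom y = (K.iCycles j).hom z := by
  have e : ∀ y : K.X i, (K.iCycles j).hom ((K.toCycles i j).hom y) = (K.d i j).hom y := fun y =>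
    congrArg (fun f => f.hom y) (K.toCycles_i i j)
  constructor
  · intro h
    have ex : (ShortComplex.mk (K.toCycles i j) (K.homologyπ j) (K.toCycles_comp_homologyπ i j)).Exact :=
      ShortComplex.exact_of_g_is_cokernel _ (K.homologyIsCokernel i j hi)
    rw [ShortComplex.moduleCat_exact_iff] at ex
    obtain ⟨y, hy⟩ := ex z h
    refine ⟨y, ?_⟩
    rw [← e]
    exact congrArg _ hy
  · rintro ⟨y, hy⟩
    rw [← e] at hy
    rw [← i_inj hy]
    exact congrArg (fun f => f.hom y) (K.toCycles_comp_homologyπ i j)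

lemma map_π (φ : K ⟶ L) (z : K.cycles j) : (HomologicalComplex.homologyMap φ j).hom ((K.homologyπ j).hom z) =
    (L.homologyπ j).hom ((HomologicalComplex.cyclesMap φ j).hom z) :=
  congrArg (fun f => f.hom z) (HomologicalComplex.homologyπ_naturality φ j)

lemma i_map (φ : K ⟶ L) (z : K.cycles j) : (L.iCycles j).hom ((HomologicalComplex.cyclesMap φ j).hom z) =
    (φ.f j).hom ((K.iCycles j).hom z) :=
  congrArg (fun f => f.hom z) (HomologicalComplex.cyclesMap_i φ j)

/-- Elementwise criterion for a quasi-isomorphism at `j`. -/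
theorem quasiIsoAt (φ : K ⟶ L) (i k : ι) (hi : c.prev j = i) (hk : c.next j = k)
    (h1 : ∀ x : K.X j, (K.d j k).hom x = 0 → ∀ y : L.X i, (φ.f j).hom x = (L.d i j).hom y →
      ∃ y : K.X i, x = (K.d i j).hom y)
    (h2 : ∀ x : L.X j, (L.d j k).hom x = 0 → ∃ (x' : K.X j) (y : L.X i), (K.d j k).hom x' = 0 ∧
      x = (φ.f j).hom x' + (L.d i j).hom y) : QuasiIsoAt φ j := by
  rw [quasiIsoAt_iff_isIso_homologyMap]
  rw [ConcreteCategory.isIso_iff_bijective]
  constructor
  · rw [injective_iff_map_eq_zero]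
    intro a ha
    obtain ⟨z, rfl⟩ := π_surj a
    have ha' : (L.homologyπ j).hom ((HomologicalComplex.cyclesMap φ j).hom z) = 0 := (map_π φ z).symm.trans ha
    rw [π_eq_zero_iff i hi] at ha'
    obtain ⟨y, hy⟩ := ha'
    rw [i_map] at hy
    obtain ⟨y', hy'⟩ := h1 _ (d_iCycles z k) y hy.symm
    exact (π_eq_zero_iff i hi z).2 ⟨y', hy'.symm⟩
  · intro a
    obtain ⟨z, rfl⟩ := π_surj a
    obtain ⟨x', y, hx', hy⟩ := h2 _ (d_iCycles z k)
    obtain ⟨z', hz'⟩ := exists_cycle k hk hx'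
    refine ⟨(K.homologyπ j).hom z', ?_⟩
    refine (map_π φ z').trans ?_
    rw [← sub_eq_zero, ← map_sub, π_eq_zero_iff i hi]
    refine ⟨-y, ?_⟩
    rw [map_sub, i_map, hz', hy, map_neg]
    abel

/-- Elementwise criterion for a quasi-isomorphism. -/
theorem quasiIso (φ : K ⟶ L)
    (h1 : ∀ j (x : K.X j), (K.d j (c.next j)).hom x = 0 → ∀ y : L.X (c.prev j),
      (φ.f j).hom x = (L.d (c.prev j) j).hom y → ∃ y : K.X (c.prev j), x = (K.d (c.prev j) j).hom y)
    (h2 : ∀ j (x : L.X j), (L.d j (c.next j)).hom x = 0 → ∃ (x' : K.X j) (y : L.X (c.prev j)),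
      (K.d j (c.next j)).hom x' = 0 ∧ x = (φ.f j).hom x' + (L.d (c.prev j) j).hom y) : QuasiIso φ :=
  ⟨fun j => quasiIsoAt φ _ _ rfl rfl (h1 j) (h2 j)⟩

lemma inj_of_quasiIso (φ : K ⟶ L) [QuasiIso φ] (i k : ι) (hi : c.prev j = i) (hk : c.next j = k)
    (x : K.X j) (hx : (K.d j k).hom x = 0) (y : L.X i) (hy : (φ.f j).hom x = (L.d i j).hom y) :
    ∃ y : K.X i, x = (K.d i j).hom y := by
  obtain ⟨z, rfl⟩ := exists_cycle k hk hx
  have h1 : (HomologicalComplex.homologyMap φ j).hom ((K.homologyπ j).hom z) = 0 := by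
    rw [map_π, π_eq_zero_iff i hi]
    exact ⟨y, by rw [i_map, hy]⟩
  have hb : Function.Bijective (HomologicalComplex.homologyMap φ j).hom :=
    (ConcreteCategory.isIso_iff_bijective (HomologicalComplex.homologyMap φ j)).1 inferInstance
  have h2 : (K.homologyπ j).hom z = 0 := hb.1 (by rw [h1, map_zero])
  rw [π_eq_zero_iff i hi] at h2
  obtain ⟨y', hy'⟩ := h2
  exact ⟨y', hy'.symm⟩

lemma surj_of_quasiIso (φ : K ⟶ L) [QuasiIso φ] (i k : ι) (hi : c.prev j = i) (hk : c.next j = k)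
    (x : L.X j) (hx : (L.d j k).hom x = 0) : ∃ (x' : K.X j) (y : L.X i), (K.d j k).hom x' = 0 ∧
      (φ.f j).hom x' - x = (L.d i j).hom y := by
  obtain ⟨z, rfl⟩ := exists_cycle k hk hx
  have hb : Function.Bijective (HomologicalComplex.homologyMap φ j).hom :=
    (ConcreteCategory.isIso_iff_bijective (HomologicalComplex.homologyMap φ j)).1 inferInstance
  obtain ⟨a, ha⟩ := hb.2 ((L.homologyπ j).hom z)
  obtain ⟨z', rfl⟩ := π_surj a
  rw [map_π, ← sub_eq_zero, ← map_sub, π_eq_zero_iff i hi] at ha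
  obtain ⟨y, hy⟩ := ha
  refine ⟨(K.iCycles j).hom z', y, d_iCycles z' k, ?_⟩
  rw [hy, map_sub, i_map]

end K225.ModQis
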