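import Groth.Agent.FlatMor.K225.LiftAlg2
import Groth.Agent.FlatMor.K225.ModQis
import Mathlib.Algebra.Category.ModuleCat.ChangeOfRings
import Mathlib.Algebra.Homology.Homotopy
import Mathlib.Algebra.Homology.HomotopyCategory
import Mathlib.LinearAlgebra.Matrix.ToLin
import Mathlib.Algebra.Category.Ring.Basic

/-!
# Complexes of finite free modules with bases
-/

set_option autoImplicit false
set_option linter.dupNamespace false

universe u

open CategoryTheory CategoryTheory.Limits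

namespace K225.MatCx

/-- A complex of finite free modules with bases. -/
structure MatCx (R : Type u) [CommRing R] (r : ℤ → ℕ) where
  d : ∀ i j, Matrix (Fin (r j)) (Fin (r i)) R
  shape : ∀ i j, i + 1 ≠ j → d i j = 0
  sq : ∀ i j k, d j k * d i j = 0

variable {R S : Type u} [CommRing R] [CommRing S] {r s : ℤ → ℕ}

namespace MatCx

/-- The complex of modules. -/
noncomputable def toCx (D : MatCx R r) : CochainComplex (ModuleCat.{u} R) ℤ where
  X i := ModuleCat.of R (Fin (r i) → R)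
  d i j := ModuleCat.ofHom (D.d i j).mulVecLin
  shape i j h := by
    rw [D.shape i j h, Matrix.mulVecLin_zero]
    rfl
  d_comp_d' i j k _ _ := by
    rw [← ModuleCat.ofHom_comp, ← Matrix.mulVecLin_mul, D.sq, Matrix.mulVecLin_zero]
    rfl

/-- The differentials, as linear maps. -/
noncomputable def lin (D : MatCx R r) (i j : ℤ) : (Fin (r i) → R) →ₗ[R] (Fin (r j) → R) := (D.d i j).mulVecLin

lemma lin_lin (D : MatCx R r) (i j k : ℤ) (x : Fin (r i) → R) : D.lin j k (D.lin i j x) = 0 := by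
  have : (D.d j k * D.d i j).mulVecLin x = 0 := by rw [D.sq]; simp
  rw [Matrix.mulVecLin_mul] at this
  exact this

lemma toCx_d (D : MatCx R r) (i j : ℤ) (x : Fin (r i) → R) : (D.toCx.d i j).hom x = D.lin i j x := rfl

/-- Base change. -/
def map (φ : R →+* S) (D : MatCx R r) : MatCx S r where
  d i j := (D.d i j).map φ
  shape i j h := by rw [D.shape i j h]; simp
  sq i j k := by rw [← Matrix.map_mul, D.sq]; simp

/-- `D'` is the reduction of `D`. -/
def Red (φ : R →+* S) (D : MatCx R r) (D' : MatCx S r) : Prop := D.map φ = D'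

lemma Red.eq {φ : R →+* S} {D : MatCx R r} {D' : MatCx S r} (h : Red φ D D') (i j : ℤ) :
    (D.d i j).map φ = D'.d i j := congrArg (fun E : MatCx S r => E.d i j) h

lemma Red.lin {φ : R →+* S} {D : MatCx R r} {D' : MatCx S r} (h : Red φ D D') (i j : ℤ)
    (x : Fin (r i) → R) : LiftAlg.redS φ _ (D.lin i j x) = D'.lin i j (LiftAlg.redS φ _ x) := by
  funext k
  change φ (Matrix.mulVec (D.d i j) x k) = Matrix.mulVec (D'.d i j) (fun l => φ (x l)) k
  rw [RingHom.map_mulVec, h.eq]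
  rfl

lemma red_map (φ : R →+* S) (D : MatCx R r) : Red φ D (D.map φ) := rfl

lemma Red.comp {T : Type u} [CommRing T] {φ : R →+* S} {ψ : S →+* T} {D : MatCx R r} {D' : MatCx S r}
    {D'' : MatCx T r} (h : Red φ D D') (h' : Red ψ D' D'') : Red (ψ.comp φ) D D'' := by
  subst h
  subst h'
  rfl

@[ext] lemma ext {D D' : MatCx R r} (h : ∀ i j, D.d i j = D'.d i j) : D = D' := by
  obtain ⟨d, _, _⟩ := D
  obtain ⟨d', _, _⟩ := D'
  have : d = d' := by ext1 i; ext1 j; exact h i j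
  subst this
  rfl

end MatCx

/-- Entrywise application of a ring map, as a linear map to the restriction of scalars. -/
def redLin (φ : R →+* S) (n : ℕ) : (Fin n → R) →ₗ[R] ((ModuleCat.restrictScalars φ).obj
    (ModuleCat.of S (Fin n → S)) : ModuleCat.{u} R) where
  toFun x := (LiftAlg.redS φ n x : Fin n → S)
  map_add' _ _ := map_add (LiftAlg.redS φ n) _ _
  map_smul' _ _ := LinearMap.map_smulₛₗ (LiftAlg.redS φ n) _ _

/-- The same as a morphism of modules. -/
noncomputable def redMor (φ : R →+* S) (n : ℕ) : ModuleCat.of R (Fin n → R) ⟶ (ModuleCat.restrictScalars φ).obj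
    (ModuleCat.of S (Fin n → S)) :=
  ModuleCat.ofHom (X := (Fin n → R)) (Y := (ModuleCat.restrictScalars φ).obj (ModuleCat.of S (Fin n → S)))
    (redLin φ n)

lemma redMor_apply (φ : R →+* S) (n : ℕ) (x : Fin n → R) :
    (redMor φ n).hom x = (LiftAlg.redS φ n x : Fin n → S) := rfl

/-- The reduction map of complexes. -/
noncomputable def redCx {R S : CommRingCat.{u}} (φ : R ⟶ S) {r : ℤ → ℕ} {D : MatCx R r} {D' : MatCx S r}
    (h : MatCx.Red φ.hom D D') : D.toCx ⟶
      ((ModuleCat.restrictScalars φ.hom).mapHomologicalComplex (ComplexShape.up ℤ)).obj D'.toCx where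
  f i := redMor φ.hom (r i)
  comm' i j _ := by
    refine ModuleCat.hom_ext (LinearMap.ext fun x => ?_)
    exact (h.lin i j x).symm

lemma redCx_f {R S : CommRingCat.{u}} (φ : R ⟶ S) {r : ℤ → ℕ} {D : MatCx R r} {D' : MatCx S r}
    (h : MatCx.Red φ.hom D D') (i : ℤ) : (redCx φ h).f i = redMor φ.hom (r i) := rfl

section Family

lemma exists_family (T : ℤ → ℤ → Type u) [∀ i j, Zero (T i j)] (b : ℤ)
    (Dk : ∀ k : ℕ, T (b - ((k + 1 : ℕ) : ℤ)) (b - (k : ℤ))) :
    ∃ D : ∀ i j, T i j, (∀ k : ℕ, D (b - ((k + 1 : ℕ) : ℤ)) (b - (k : ℤ)) = Dk k) ∧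
      ∀ i j, (∀ k : ℕ, ¬ (i = b - ((k + 1 : ℕ) : ℤ) ∧ j = b - (k : ℤ))) → D i j = 0 := by
  classical
  have h : ∀ i j, ∃ t : T i j, (∀ (k : ℕ) (h : i = b - ((k + 1 : ℕ) : ℤ) ∧ j = b - (k : ℤ)),
      t = cast (by rw [h.1, h.2]) (Dk k)) ∧
      ((∀ k : ℕ, ¬ (i = b - ((k + 1 : ℕ) : ℤ) ∧ j = b - (k : ℤ))) → t = 0) := by
    intro i j
    by_cases hk : ∃ k : ℕ, i = b - ((k + 1 : ℕ) : ℤ) ∧ j = b - (k : ℤ)
    · obtain ⟨k, rfl, rfl⟩ := hk
      refine ⟨Dk k, ?_, fun h' => (h' k ⟨rfl, rfl⟩).elim⟩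
      rintro k' ⟨h1, h2⟩
      obtain rfl : k = k' := by omega
      rfl
    · exact ⟨0, fun k h => (hk ⟨k, h⟩).elim, fun _ => rfl⟩
  choose D hD hD' using h
  exact ⟨D, fun k => hD _ _ k ⟨rfl, rfl⟩, hD'⟩

end Family

section Lift

variable (φ : R →+* S) (b : ℤ) (P : MatCx R s) (F' : MatCx S r)

/-- The hypotheses of the ℤ-indexed lifting lemma. -/
structure LHyp (v : (P.map φ).toCx ⟶ F'.toCx) : Prop where
  surj : Function.Surjective φ
  jac : RingHom.ker φ ≤ Ideal.jacobson ⊥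
  hr : ∀ i, b ≤ i → r i = 0
  hs : ∀ i, b ≤ i → s i = 0
  qis : QuasiIso v

/-- `v` in degree `i`, as a linear map. -/
noncomputable def vlin {P' : MatCx S s} {F' : MatCx S r} (v : P'.toCx ⟶ F'.toCx) (i : ℤ) :
    (Fin (s i) → S) →ₗ[S] (Fin (r i) → S) := (v.f i).hom

lemma vlin_comm {P' : MatCx S s} {F' : MatCx S r} (v : P'.toCx ⟶ F'.toCx) (i j : ℤ) (x : Fin (s i) → S) :
    vlin v j (P'.lin i j x) = F'.lin i j (vlin v i x) :=
  (congrArg (fun f => f.hom x) (v.comm i j)).symm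

lemma rel (b : ℤ) (k : ℕ) : (ComplexShape.up ℤ).Rel (b - ((k + 1 : ℕ) : ℤ)) (b - (k : ℤ)) := by
  rw [ComplexShape.up_Rel]
  push_cast
  ring

lemma next_eq (b : ℤ) (k : ℕ) : (ComplexShape.up ℤ).next (b - ((k + 1 : ℕ) : ℤ)) = b - (k : ℤ) :=
  (ComplexShape.up ℤ).next_eq' (rel b k)

lemma prev_eq (b : ℤ) (k : ℕ) : (ComplexShape.up ℤ).prev (b - (k : ℤ)) = b - ((k + 1 : ℕ) : ℤ) :=
  (ComplexShape.up ℤ).prev_eq' (rel b k)

omit [CommRing R] in
lemma fin_zero {n : ℕ} (h : n = 0) (x y : Fin n → R) : x = y := by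
  subst h
  exact Subsingleton.elim _ _

variable {φ b P F'}

lemma LHyp.hyp2 {v : (P.map φ).toCx ⟶ F'.toCx} (H : LHyp φ b P F' v) :
    LiftAlg.Hyp2 φ (P := fun k : ℕ => Fin (s (b - (k : ℤ))) → R)
      (fun k => P.lin (b - ((k + 1 : ℕ) : ℤ)) (b - (k : ℤ))) (r := fun k : ℕ => r (b - (k : ℤ)))
      (fun k => (vlin v (b - (k : ℤ))).comp (LiftAlg.redS φ _))
      (fun k => F'.lin (b - ((k + 1 : ℕ) : ℤ)) (b - (k : ℤ))) where
  surj := H.surj
  jac := H.jac
  hud k x := by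
    change vlin v _ (LiftAlg.redS φ _ (P.lin _ _ x)) = F'.lin _ _ (vlin v _ (LiftAlg.redS φ _ x))
    rw [(MatCx.red_map φ P).lin, vlin_comm]
  hdd k x := P.lin_lin _ _ _ x
  hDD k x := F'.lin_lin _ _ _ x
  zero := H.hr _ (by simp)
  zero' x := fin_zero (H.hs _ (by simp)) _ _
  Q1 k z c hz hdz := by
    have := H.qis
    have h1 : (P.map φ).lin _ (b - (k : ℤ)) (LiftAlg.redS φ _ z) = 0 := by
      rw [← (MatCx.red_map φ P).lin]
      exact LiftAlg.eq_zero_of_mem φ (LiftAlg.redS φ _) hdz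
    obtain ⟨x', hx'⟩ := ModQis.inj_of_quasiIso v (b - ((k + 1 + 1 : ℕ) : ℤ)) (b - (k : ℤ))
      (prev_eq b (k + 1)) (next_eq b k) (LiftAlg.redS φ _ z) h1 c hz
    obtain ⟨x, rfl⟩ := LiftAlg.redS_surj φ H.surj _ x'
    refine ⟨x, LiftAlg.mem_of_redS_eq_zero φ _ _ ?_⟩
    rw [map_sub, (MatCx.red_map φ P).lin, sub_eq_zero]
    exact hx'
  Q2 k c hc := by
    have := H.qis
    obtain ⟨x', e, hx', he⟩ := ModQis.surj_of_quasiIso v (b - ((k + 1 + 1 : ℕ) : ℤ)) (b - (k : ℤ))
      (prev_eq b (k + 1)) (next_eq b k) c hc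
    obtain ⟨z, rfl⟩ := LiftAlg.redS_surj φ H.surj _ x'
    refine ⟨z, e, he, LiftAlg.mem_of_redS_eq_zero φ _ _ ?_⟩
    rw [(MatCx.red_map φ P).lin]
    exact hx'

lemma deg_cases (b j : ℤ) : b ≤ j ∨ ∃ k : ℕ, j = b - ((k + 1 : ℕ) : ℤ) := by
  rcases le_or_gt b j with h | h
  · exact Or.inl h
  · refine Or.inr ⟨(b - 1 - j).toNat, ?_⟩
    rw [Nat.cast_add, Int.toNat_of_nonneg (by omega)]
    push_cast
    ring

/-- The lifting lemma for complexes of finite free modules with bases. -/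
theorem LHyp.exists_lift {v : (P.map φ).toCx ⟶ F'.toCx} (H : LHyp φ b P F' v) :
    ∃ (D : MatCx R r) (w : D.toCx ⟶ P.toCx), MatCx.Red φ D F' ∧ QuasiIso w ∧
      ∃ h : ∀ i j, (Fin (r j) → R) →ₗ[R] (Fin (r i) → R), (∀ i j, i + 1 ≠ j → h i j = 0) ∧
      ∀ i y, LiftAlg.redS φ _ y = vlin v i (LiftAlg.redS φ _ ((w.f i).hom y)) +
        LiftAlg.redS φ _ (h i (i + 1) (D.lin i (i + 1) y)) +
        F'.lin (i - 1) i (LiftAlg.redS φ _ (h (i - 1) i y)) := by
  have H2 := H.hyp2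
  -- the differential
  obtain ⟨d, hd, hd'⟩ := exists_family (fun i j => Matrix (Fin (r j)) (Fin (r i)) R) b
    (fun k => LinearMap.toMatrix' (H2.D k))
  have hl : ∀ k : ℕ, (d (b - ((k + 1 : ℕ) : ℤ)) (b - (k : ℤ))).mulVecLin = H2.D k := by
    intro k
    rw [hd k, ← Matrix.toLin'_apply', Matrix.toLin'_toMatrix']
  let D : MatCx R r :=
    { d := d
      shape := fun i j hij => hd' i j (by rintro k ⟨rfl, rfl⟩; apply hij; push_cast; ring)
      sq := by
        intro i j l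
        by_cases h1 : ∃ k : ℕ, i = b - ((k + 1 : ℕ) : ℤ) ∧ j = b - (k : ℤ)
        · by_cases h2 : ∃ k : ℕ, j = b - ((k + 1 : ℕ) : ℤ) ∧ l = b - (k : ℤ)
          · obtain ⟨k, rfl, rfl⟩ := h1
            obtain ⟨k', h3, rfl⟩ := h2
            obtain rfl : k = k' + 1 := by omega
            rw [hd, hd, ← LinearMap.toMatrix'_comp]
            have : (H2.D k').comp (H2.D (k' + 1)) = 0 := LinearMap.ext fun y => H2.D_D k' y
            rw [this, map_zero]
          · rw [hd' j l (fun k hk => h2 ⟨k, hk⟩), Matrix.zero_mul]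
        · rw [hd' i j (fun k hk => h1 ⟨k, hk⟩), Matrix.mul_zero] }
  have hD : ∀ (k : ℕ) (y : Fin (r (b - ((k + 1 : ℕ) : ℤ))) → R), D.lin _ (b - (k : ℤ)) y = H2.D k y :=
    fun k y => congrArg (fun f => f y) (hl k)
  -- the map
  have hw : ∃ w : ∀ i, (Fin (r i) → R) →ₗ[R] (Fin (s i) → R), (∀ k : ℕ, w (b - (k : ℤ)) = H2.w k) := by
    have : ∀ i, ∃ w : (Fin (r i) → R) →ₗ[R] (Fin (s i) → R), ∀ (k : ℕ) (h : b - (k : ℤ) = i),
        w = h ▸ H2.w k := by
      intro i
      by_cases hk : ∃ k : ℕ, b - (k : ℤ) = i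
      · obtain ⟨k, rfl⟩ := hk
        refine ⟨H2.w k, ?_⟩
        intro k' h
        obtain rfl : k = k' := by omega
        rfl
      · exact ⟨0, fun k h => (hk ⟨k, h⟩).elim⟩
    choose w hw using this
    exact ⟨w, fun k => hw _ k rfl⟩
  obtain ⟨w, hw⟩ := hw
  have hwc : ∀ i j y, i + 1 = j → P.lin i j (w i y) = w j (D.lin i j y) := by
    intro i j y hij
    rcases deg_cases b i with h | ⟨k, rfl⟩
    · exact fin_zero (H.hs _ (by omega)) _ _
    · obtain rfl : j = b - (k : ℤ) := by push_cast at hij; omega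
      rw [hw, hw, hD]
      exact (H2.w_D k y).symm
  let W : D.toCx ⟶ P.toCx :=
    { f := fun i => ModuleCat.ofHom (w i)
      comm' := fun i j hij => by
        ext y
        exact hwc i j y hij }
  -- the homotopy
  obtain ⟨h, hh, hh'⟩ := exists_family (fun i j => (Fin (r j) → R) →ₗ[R] (Fin (r i) → R)) b
    (fun k => H2.h k)
  refine ⟨D, W, ?_, ?_, h, ?_, ?_⟩
  · -- reduction
    have key : ∀ i j, (D.map φ).lin i j = F'.lin i j := by
      intro i j
      by_cases h1 : ∃ k : ℕ, i = b - ((k + 1 : ℕ) : ℤ) ∧ j = b - (k : ℤ)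
      · obtain ⟨k, rfl, rfl⟩ := h1
        refine LinearMap.ext fun x => ?_
        obtain ⟨y, rfl⟩ := LiftAlg.redS_surj φ H.surj _ x
        rw [← (MatCx.red_map φ D).lin, hD]
        exact H2.red k y
      · refine LinearMap.ext fun x => ?_
        by_cases hij : i + 1 = j
        · -- the target or the source vanishes
          have : b < j := by
            rcases deg_cases b i with h | ⟨k, rfl⟩
            · omega
            · exact (h1 ⟨k, rfl, by push_cast at hij; omega⟩).elim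
          exact fin_zero (H.hr _ this.le) _ _
        · unfold MatCx.lin
          rw [F'.shape i j hij, (D.map φ).shape i j hij]
    refine MatCx.ext fun i j => ?_
    have h1 := congrArg LinearMap.toMatrix' (key i j)
    simp only [MatCx.lin, ← Matrix.toLin'_apply', LinearMap.toMatrix'_toLin'] at h1
    exact h1
  · -- quasi-isomorphism
    refine ⟨fun j => ?_⟩
    rcases deg_cases b j with hj | ⟨k, rfl⟩
    · refine ModQis.quasiIsoAt W _ _ rfl rfl ?_ ?_
      · intro x _ y _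
        exact ⟨0, fin_zero (H.hr _ hj) _ _⟩
      · intro x _
        exact ⟨0, 0, fin_zero (H.hr _ (by rw [CochainComplex.next]; omega)) _ _, fin_zero (H.hs _ hj) _ _⟩
    · refine ModQis.quasiIsoAt W (b - ((k + 1 + 1 : ℕ) : ℤ)) (b - (k : ℤ)) (prev_eq b (k + 1))
        (next_eq b k) ?_ ?_
      · intro x hx y hy
        have hx1 : H2.D k x = 0 := by rw [← hD]; exact hx
        have hy1 : H2.w (k + 1) x = P.lin _ _ y := by rw [← hw]; exact hy
        obtain ⟨z, hz⟩ := H2.inj k x hx1 y hy1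
        exact ⟨z, hz.trans (hD (k + 1) z).symm⟩
      · intro x hx
        obtain ⟨z, x', hz, hx'⟩ := H2.surj' k x hx
        refine ⟨z, x', (hD k z).trans hz, ?_⟩
        have h3 : (W.f (b - ((k + 1 : ℕ) : ℤ))).hom z = H2.w (k + 1) z :=
          congrArg (fun f => f z) (hw (k + 1))
        exact hx'.trans (congrArg (· + _) h3.symm)
  · intro i j hij
    refine hh' i j ?_
    rintro k ⟨rfl, rfl⟩
    apply hij; push_cast; ring
  · intro i y
    rcases deg_cases b i with hi | ⟨k, rfl⟩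
    · exact fin_zero (H.hr _ hi) _ _
    · have e1 : b - ((k + 1 : ℕ) : ℤ) + 1 = b - (k : ℤ) := by push_cast; ring
      have e2 : b - ((k + 1 : ℕ) : ℤ) - 1 = b - ((k + 1 + 1 : ℕ) : ℤ) := by push_cast; ring
      rw [e1, e2]
      have h3 : (W.f (b - ((k + 1 : ℕ) : ℤ))).hom y = H2.w (k + 1) y :=
        congrArg (fun f => f y) (hw (k + 1))
      have h4 := H2.homotopy k y
      rw [← hD] at h4
      rw [← hh k, ← hh (k + 1)] at h4
      rw [h3]
      exact h4

end Lift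

end K225.MatCx
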