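import Groth.Agent.FlatMor.K225.AffArr
import Groth.Agent.FlatMor.K225.MatCx

/-!
# Cartesian arrows between affine schemes
-/

set_option autoImplicit false

universe u

open CategoryTheory CategoryTheory.Limits AlgebraicGeometry Opposite TopologicalSpace

attribute [local instance] HasDerivedCategory.standard

namespace K225.AffArr

open Groth.Agent.PerfB.BCTot Groth.Agent.PerfB.BCTot.Tot Groth.Agent.PerfB.BCMod
  Groth.Agent.PerfB.BCCx Groth.Agent.PerfB.BCSch Groth.Agent.PerfB.BCPush
open Groth.Agent.Sga67.Sec Groth.Agent.Fixpt.H906.SecTot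
open Groth.Agent.PerfC.TildePush Groth.Agent.Krr.H487.LocBasisPull

variable {R S : CommRingCat.{u}} (φ : R ⟶ S)

/-- The element `1 ⊗ m`. -/
noncomputable def one (M : ModuleCat.{u} R) (m : M) : (ModuleCat.extendScalars φ.hom).obj M :=
  ((ModuleCat.extendRestrictScalarsAdj φ.hom).unit.app M).hom m

/-- The map induced by a semilinear map. -/
noncomputable def bcMap {M : ModuleCat.{u} R} {N : ModuleCat.{u} S}
    (ρ : M ⟶ (ModuleCat.restrictScalars φ.hom).obj N) : (ModuleCat.extendScalars φ.hom).obj M ⟶ N :=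
  ((ModuleCat.extendRestrictScalarsAdj φ.hom).homEquiv M N).symm ρ

lemma bcMap_one {M : ModuleCat.{u} R} {N : ModuleCat.{u} S}
    (ρ : M ⟶ (ModuleCat.restrictScalars φ.hom).obj N) (m : M) :
    (bcMap φ ρ).hom (one φ M m) = (show N from ρ.hom m) := by
  have h := ((ModuleCat.extendRestrictScalarsAdj φ.hom).homEquiv M N).apply_symm_apply ρ
  rw [Adjunction.homEquiv_unit] at h
  exact congrArg (fun k => k.hom m) h

lemma ext_one {M : ModuleCat.{u} R} {N : ModuleCat.{u} S} {f g : (ModuleCat.extendScalars φ.hom).obj M ⟶ N}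
    (h : ∀ m : M, f.hom (one φ M m) = g.hom (one φ M m)) : f = g := by
  apply ((ModuleCat.extendRestrictScalarsAdj φ.hom).homEquiv _ _).injective
  rw [Adjunction.homEquiv_unit, Adjunction.homEquiv_unit]
  refine ModuleCat.hom_ext (LinearMap.ext fun m => ?_)
  exact h m

lemma tildeExt_hom_ext {M : ModuleCat.{u} R} {N : (Spec S).Modules}
    {f g : (tilde.functor S).obj ((ModuleCat.extendScalars φ.hom).obj M) ⟶ N}
    (h : ∀ m : M, appS f ⊤ (ts (one φ M m)) = appS g ⊤ (ts (one φ M m))) : f = g := by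
  apply ((tilde.adjunction (R := S)).homEquiv _ _).injective
  refine ext_one φ fun m => ?_
  rw [Adjunction.homEquiv_unit, Adjunction.homEquiv_unit]
  exact h m

open Groth.Agent.Desc.EtAssocAff in
/-- Criterion for an arrow to be cartesian. -/
lemma isCart_of_isIso {M : ModuleCat.{u} R} {N : ModuleCat.{u} S}
    (m : (⟨Spec S, (tilde.functor S).obj N⟩ : Tot modPull.{u}) ⟶ ⟨Spec R, (tilde.functor R).obj M⟩)
    (hm : m.base = Spec.map φ) (ρ : M ⟶ (ModuleCat.restrictScalars φ.hom).obj N) (hρ : IsIso (bcMap φ ρ))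
    (h : ∀ x : M, sec m (V := ⊤) (ts x) = ts (M := N) (show N from ρ.hom x)) : IsCart m := by
  obtain ⟨mb, mf⟩ := m
  obtain rfl : mb = Spec.map φ := hm
  have h1 : (ψ φ M).hom ≫ mf = (tilde.functor S).map (bcMap φ ρ) := by
    refine tildeExt_hom_ext φ fun x => ?_
    refine (appS_comp _ _ _ _).trans ?_
    have h2 : appS (ψ φ M).hom ⊤ (ts (one φ M x)) = pbS (Spec.map φ) ((tilde.functor R).obj M) (U := ⊤) (ts x) :=
      E_apply φ M x
    refine (congrArg _ h2).trans ?_
    refine (h x).trans ?_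
    refine Eq.trans ?_ (appS_map (bcMap φ ρ) (one φ M x)).symm
    rw [bcMap_one]
  have h3 : IsIso ((ψ φ M).hom ≫ mf) := by
    rw [h1]
    exact @Functor.map_isIso _ _ _ _ _ _ (tilde.functor S) (bcMap φ ρ) hρ
  exact IsIso.of_isIso_comp_left (ψ φ M).hom mf

/-- The case of free modules. -/
lemma isIso_bcMap_red (n : ℕ) : IsIso (bcMap φ (MatCx.redMor φ.hom n)) := by
  let inv : ModuleCat.of S (Fin n → S) ⟶ (ModuleCat.extendScalars φ.hom).obj (ModuleCat.of R (Fin n → R)) :=
    ModuleCat.ofHom (X := Fin n → S) (Y := (ModuleCat.extendScalars φ.hom).obj (ModuleCat.of R (Fin n → R)))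
    (Fintype.linearCombination S
      (fun j => one φ (ModuleCat.of R (Fin n → R)) (Pi.single j 1 : Fin n → R)))
  have hinv : ∀ y : Fin n → S, inv.hom y =
      ∑ j, y j • one φ (ModuleCat.of R (Fin n → R)) (Pi.single j 1 : Fin n → R) := by
    intro y
    exact Fintype.linearCombination_apply S
      (fun j => one φ (ModuleCat.of R (Fin n → R)) (Pi.single j 1 : Fin n → R)) y
  have hone : ∀ x : Fin n → R, one φ (ModuleCat.of R (Fin n → R)) x =
      ∑ j, φ.hom (x j) • one φ (ModuleCat.of R (Fin n → R)) (Pi.single j 1 : Fin n → R) := by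
    intro x
    have e : x = ∑ j, x j • (Pi.single j 1 : Fin n → R) := by
      ext i; rw [Finset.sum_apply]; simp [Pi.single_apply]
    conv_lhs => rw [e]
    unfold one
    refine (map_sum ((ModuleCat.extendRestrictScalarsAdj φ.hom).unit.app (ModuleCat.of R (Fin n → R))).hom
      _ _).trans ?_
    refine Finset.sum_congr rfl fun j _ => ?_
    exact map_smul ((ModuleCat.extendRestrictScalarsAdj φ.hom).unit.app (ModuleCat.of R (Fin n → R))).hom _ _
  refine ⟨inv, ?_, ?_⟩
  · refine ext_one φ fun x => ?_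
    change inv.hom ((bcMap φ (MatCx.redMor φ.hom n)).hom (one φ _ x)) = one φ _ x
    rw [bcMap_one, hone x]
    exact hinv _
  · refine ModuleCat.hom_ext (LinearMap.ext fun y => ?_)
    change (bcMap φ (MatCx.redMor φ.hom n)).hom (inv.hom y) = y
    rw [hinv, map_sum]
    have : ∀ j, (bcMap φ (MatCx.redMor φ.hom n)).hom
        (y j • one φ (ModuleCat.of R (Fin n → R)) (Pi.single j 1 : Fin n → R)) = Pi.single j (y j) := by
      intro j
      rw [map_smul, bcMap_one]
      change y j • LiftAlg.redS φ.hom n (Pi.single j 1) = _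
      funext k
      simp only [Pi.smul_apply, LiftAlg.redS_apply, smul_eq_mul]
      by_cases hk : k = j
      · subst hk; simp
      · simp [hk]
    refine (Finset.sum_congr rfl fun j _ => this j).trans ?_
    exact Finset.univ_sum_single y

variable {φ}

/-- The arrow of a reduction map is cartesian. -/
theorem isCart_ar_red {r : ℤ → ℕ} {D : MatCx.MatCx R r} {D' : MatCx.MatCx S r} (h : MatCx.MatCx.Red φ.hom D D') :
    IsCart (ar φ (MatCx.redCx φ h)) := by
  rw [isCart_iff_eval]
  intro i
  refine isCart_of_isIso φ (M := D.toCx.X i) (N := D'.toCx.X i) _ ?_ (MatCx.redMor φ.hom (r i))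
    (isIso_bcMap_red φ (r i)) ?_
  · exact ar_base φ _
  · intro x
    exact sc_ar φ (MatCx.redCx φ h) i x

end K225.AffArr
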