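import Groth.Agent.FlatMor.K225.LimMat
import Mathlib.Algebra.Homology.HomologicalComplexAbelian

/-!
# Limits of towers of complexes of modules as homotopy limits
-/

set_option autoImplicit false
set_option linter.dupNamespace false

universe u

open CategoryTheory CategoryTheory.Limits Pretriangulated

attribute [local instance] HasDerivedCategory.standard

namespace K225.MatCx

open HoLim

variable {A : Type u} [CommRing A] {G : ℕ → CochainComplex (ModuleCat.{u} A) ℤ} (t : ∀ n, G (n + 1) ⟶ G n)
  {L : CochainComplex (ModuleCat.{u} A) ℤ} (a : ∀ n, L ⟶ G n)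

/-- Identity minus shift. -/
noncomputable def oneSubSh : piCx G ⟶ piCx G :=
  piLift G fun n => piProj G n - piProj G (n + 1) ≫ t n

lemma oneSubSh_apply (i : ℤ) (y : ∀ n, (G n).X i) (n : ℕ) :
    (show ∀ n, (G n).X i from ((oneSubSh t).f i).hom y) n = y n - ((t n).f i).hom (y (n + 1)) := rfl

variable {t a}

/-- A termwise limit along surjections is a homotopy limit. -/
theorem rl_of_limit (hcomm : ∀ n, a (n + 1) ≫ t n = a n)
    (hinj : ∀ (i : ℤ) (x : L.X i), (∀ n, ((a n).f i).hom x = 0) → x = 0)
    (hsurj : ∀ (i : ℤ) (y : ∀ n, (G n).X i), (∀ n, ((t n).f i).hom (y (n + 1)) = y n) →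
      ∃ x : L.X i, ∀ n, ((a n).f i).hom x = y n)
    (ht : ∀ n i, Function.Surjective ((t n).f i).hom) :
    RL (⊤ : ObjectProperty (DerivedCategory (ModuleCat.{u} A))) (fun n => DerivedCategory.Q.obj (G n))
      (fun n => DerivedCategory.Q.map (t n)) (DerivedCategory.Q.obj L) (fun n => DerivedCategory.Q.map (a n)) := by
  have h0 : piLift G a ≫ oneSubSh t = 0 := by
    refine pi_hom_ext G fun n => ?_
    have : (piLift G a ≫ oneSubSh t) ≫ piProj G n = a n - a (n + 1) ≫ t n := by
      rw [Category.assoc]
      have h1 : oneSubSh t ≫ piProj G n = piProj G n - piProj G (n + 1) ≫ t n := rfl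
      rw [h1, Preadditive.comp_sub, ← Category.assoc, piLift_proj, piLift_proj]
    rw [this, hcomm, sub_self, zero_comp]
  let S : ShortComplex (CochainComplex (ModuleCat.{u} A) ℤ) := ShortComplex.mk (piLift G a) (oneSubSh t) h0
  have hS : S.ShortExact := by
    refine HomologicalComplex.shortExact_of_degreewise_shortExact S fun i => ?_
    have hm : Mono (S.map (HomologicalComplex.eval _ _ i)).f := by
      rw [ModuleCat.mono_iff_injective]
      refine (injective_iff_map_eq_zero ((S.map (HomologicalComplex.eval _ _ i)).f).hom).2 fun x hx => ?_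
      exact hinj i x fun n => congrFun (show (fun n => ((a n).f i).hom x) = 0 from hx) n
    have he : Epi (S.map (HomologicalComplex.eval _ _ i)).g := by
      rw [ModuleCat.epi_iff_surjective]
      intro z
      change ∀ n, (G n).X i at z
      choose s hs using fun n => ht n i
      refine ⟨(fun n => Nat.rec (motive := fun n => (G n).X i) 0 (fun n y => s n (y - z n)) n :
        ∀ n, (G n).X i), ?_⟩
      funext n
      refine (oneSubSh_apply t i _ n).trans ?_
      dsimp only
      rw [hs]
      abel
    have hex : (S.map (HomologicalComplex.eval _ _ i)).Exact := by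
      rw [ShortComplex.moduleCat_exact_iff]
      intro y hy
      change ∀ n, (G n).X i at y
      obtain ⟨x, hx⟩ := hsurj i y fun n => by
        have h1 : y n - ((t n).f i).hom (y (n + 1)) = 0 :=
          congrFun (show (show ∀ n, (G n).X i from ((oneSubSh t).f i).hom y) = 0 from hy) n
        exact (sub_eq_zero.1 h1).symm
      exact ⟨x, funext hx⟩
    exact { exact := hex, mono_f := hm, epi_g := he }
  refine ⟨DerivedCategory.Q.obj (piCx G), fun n => DerivedCategory.Q.map (piProj G n),
    DerivedCategory.Q.map (oneSubSh t), DerivedCategory.Q.map (piLift G a), DerivedCategory.triangleOfSESδ hS,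
    trivial, trivial, ⟨?_, ?_⟩, ?_, ?_, DerivedCategory.triangleOfSES_distinguished hS⟩
  · intro Z _ f
    exact ⟨Fan.IsLimit.lift (piLimitQ G) f, fun n => Fan.IsLimit.fac (piLimitQ G) f n⟩
  · intro Z _ g g' h
    exact Fan.IsLimit.hom_ext (piLimitQ G) _ _ h
  · intro n
    rw [← Functor.map_comp, ← Functor.map_comp, ← Functor.map_sub]
    rfl
  · intro n
    rw [← Functor.map_comp]
    rfl

end K225.MatCx
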