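import Groth.Agent.FlatMor.K225.LiftTot
import Groth.Agent.FlatMor.K225.LimRL

/-!
# Towers of pseudo-coherent objects on affine schemes
-/

set_option autoImplicit false

universe u

open CategoryTheory CategoryTheory.Limits AlgebraicGeometry Opposite TopologicalSpace

attribute [local instance] HasDerivedCategory.standard

namespace K225.AffArr

open Groth.Agent.PerfB.BCTot Groth.Agent.PerfB.BCTot.Tot Groth.Agent.PerfB.BCMod
  Groth.Agent.PerfB.BCCx Groth.Agent.PerfB.BCSch Groth.Agent.PerfB.BCPush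

open MatCx MatRep HoLim

section Trans

variable {R S T : CommRingCat.{u}} {ρ : R ⟶ S} {ψ : S ⟶ T} {θ : R ⟶ T} {r : ℤ → ℕ}
  {D' : MatCx S r} {D'' : MatCx T r}

/-- The transition map between restrictions of scalars, in one degree. -/
noncomputable def tMor (e : ρ ≫ ψ = θ) (n : ℕ) :
    (ModuleCat.restrictScalars ρ.hom).obj (ModuleCat.of S (Fin n → S)) ⟶
      (ModuleCat.restrictScalars θ.hom).obj (ModuleCat.of T (Fin n → T)) :=
  ModuleCat.ofHom (X := (ModuleCat.restrictScalars ρ.hom).obj (ModuleCat.of S (Fin n → S)))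
    (Y := (ModuleCat.restrictScalars θ.hom).obj (ModuleCat.of T (Fin n → T)))
    { toFun := fun x => (LiftAlg.redS ψ.hom n x : Fin n → T)
      map_add' := fun _ _ => map_add (LiftAlg.redS ψ.hom n) _ _
      map_smul' := fun a x => by
        subst e
        exact LinearMap.map_smulₛₗ (LiftAlg.redS ψ.hom n) (ρ.hom a) x }

lemma tMor_apply (e : ρ ≫ ψ = θ) (n : ℕ) (x : Fin n → S) :
    (tMor e n).hom x = (LiftAlg.redS ψ.hom n x : Fin n → T) := rfl

/-- The transition map between restrictions of scalars of complexes. -/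
noncomputable def tCx (e : ρ ≫ ψ = θ) (h : MatCx.Red ψ.hom D' D'') :
    (rs ρ).obj D'.toCx ⟶ (rs θ).obj D''.toCx where
  f i := tMor e (r i)
  comm' i j _ := by
    refine ModuleCat.hom_ext (LinearMap.ext fun x => ?_)
    exact (h.lin i j x).symm

end Trans

lemma exists_seq (St : ℕ → Type*) (Rel : ∀ n, St n → St (n + 1) → Prop) (s₀ : St 0)
    (h : ∀ n s, ∃ s', Rel n s s') : ∃ s : ∀ n, St n, ∀ n, Rel n (s n) (s (n + 1)) := by
  choose f hf using h
  exact ⟨fun n => Nat.rec s₀ (fun n s => f n s) n, fun n => hf n _⟩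

lemma ker_le_jacobson {A B : Type u} [CommRing A] [CommRing B] (f : A →+* B)
    (h : ∀ x ∈ RingHom.ker f, IsNilpotent x) : RingHom.ker f ≤ Ideal.jacobson ⊥ := by
  intro x hx
  rw [Ideal.mem_jacobson_bot]
  intro y
  exact ((Commute.all x y).isNilpotent_mul_right (h x hx)).isUnit_add_one

section Tower

variable {A : Type u} [CommRing A] {A' : ℕ → Type u} [∀ n, CommRing (A' n)] {φ : ∀ n, A' (n + 1) →+* A' n}
  {π : ∀ n, A →+* A' n}

/-- Towers of pseudo-coherent objects on affine schemes. -/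
theorem affine_tower (hlim : FlatCA.IsRingLimit A A' φ π) (hsurj : ∀ n, Function.Surjective (φ n))
    (hnil : ∀ n, ∀ x ∈ RingHom.ker (φ n), IsNilpotent x)
    (N : ∀ n, DCoh.D (Spec (CommRingCat.of (A' n)))) (hN : ∀ n (m : ℤ), DCoh.IsPseudoCoherentD m (N n))
    (σm : ∀ n, (⟨Spec (CommRingCat.of (A' n)), N n⟩ : Tot dPull.{u}) ⟶
      ⟨Spec (CommRingCat.of (A' (n + 1))), N (n + 1)⟩)
    (hσ : ∀ n, (σm n).base = Spec.map (CommRingCat.ofHom (φ n))) (hσc : ∀ n, IsCart (σm n))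
    (Qn : ℕ → DCoh.D (Spec (CommRingCat.of A)))
    (c : ∀ n, (⟨Spec (CommRingCat.of (A' n)), N n⟩ : Tot dPull.{u}) ⟶ ⟨Spec (CommRingCat.of A), Qn n⟩)
    (hc : ∀ n, (c n).base = Spec.map (CommRingCat.ofHom (π n))) (hcc : ∀ n, IsCocart (c n))
    (tau : ∀ n, Qn (n + 1) ⟶ Qn n) (htau : ∀ n, σm n ≫ c (n + 1) = c n ≫ ver (tau n))
    (L : DCoh.D (Spec (CommRingCat.of A))) (lam : ∀ n, L ⟶ Qn n)
    (hL : RL (DCoh.IsQCohD (X := Spec (CommRingCat.of A))) Qn tau L lam) :
    (∀ m : ℤ, DCoh.IsPseudoCoherentD m L) ∧ ∀ n, IsCart (c n ≫ ver (P := dPull.{u}) (lam n)) := by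
  -- the strict tower
  obtain ⟨b, r, F₀, -, hr, ⟨ε₀⟩⟩ := exists_rep (CommRingCat.of (A' 0)) (N 0) (hN 0) 0
  obtain ⟨s, hs⟩ := exists_seq
    (fun n => Σ F : MatCx (CommRingCat.of (A' n)) r, DerivedCategory.Q.obj ((tcx (CommRingCat.of (A' n))).obj F.toCx) ≅ N n)
    (fun n x y => ∃ h : MatCx.Red (CommRingCat.ofHom (φ n)).hom y.1 x.1,
      ver (P := dPull.{u}) x.2.hom ≫ Θ (CommRingCat.ofHom (φ n)) (redCx (CommRingCat.ofHom (φ n)) h) =
        σm n ≫ ver (P := dPull.{u}) y.2.hom) ⟨F₀, ε₀⟩ (by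
    rintro n ⟨F, ε⟩
    have h1 : IsIso (ver (P := dPull.{u}) ε.inv) := isIso_ver _
    obtain ⟨D, h, α, hα⟩ := exists_lift_tot (φ := CommRingCat.ofHom (φ n)) (hsurj n)
      (ker_le_jacobson _ (hnil n)) hr F (N (n + 1)) (hN (n + 1)) (ver (P := dPull.{u}) ε.inv ≫ σm n)
      (by rw [comp_base, hσ]; exact Category.id_comp _)
      ((Groth.Agent.PerfB.BCTot.Tot.isCart_of_isIso _).comp (hσc n))
    refine ⟨⟨D, α⟩, h, ?_⟩
    dsimp only
    rw [← hα, Category.assoc, ← Category.assoc, ver_comp_ver, ε.inv_hom_id, ver_id, Category.id_comp])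
  let F : ∀ n, MatCx (A' n) r := fun n => (s n).1
  let ε : ∀ n, DerivedCategory.Q.obj ((tcx (CommRingCat.of (A' n))).obj (F n).toCx) ≅ N n := fun n => (s n).2
  have hF : ∀ n, MatCx.Red (φ n) (F (n + 1)) (F n) := fun n => (hs n).1
  have hε : ∀ n, ver (P := dPull.{u}) (ε n).hom ≫ Θ (CommRingCat.ofHom (φ n))
      (redCx (CommRingCat.ofHom (φ n)) (hF n)) = σm n ≫ ver (P := dPull.{u}) (ε (n + 1)).hom :=
    fun n => (hs n).2
  -- the limit
  obtain ⟨G, hG⟩ := exists_limit hlim F hF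
  have e : ∀ n, CommRingCat.ofHom (π (n + 1)) ≫ CommRingCat.ofHom (φ n) = CommRingCat.ofHom (π n) := by
    intro n
    rw [← CommRingCat.ofHom_comp, hlim.1]
  let G' : ℕ → CochainComplex (ModuleCat.{u} A) ℤ := fun n => (rs (CommRingCat.ofHom (π n))).obj (F n).toCx
  let t : ∀ n, G' (n + 1) ⟶ G' n := fun n => tCx (e n) (hF n)
  let a : ∀ n, G.toCx ⟶ G' n := fun n => redCx (CommRingCat.ofHom (π n)) (hG n)
  have ha : ∀ n, a (n + 1) ≫ t n = a n := by
    intro n
    refine HomologicalComplex.hom_ext _ _ fun i => ModuleCat.hom_ext (LinearMap.ext fun x => ?_)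
    funext k
    exact congrArg (fun f : A →+* A' n => f (show A from x k)) (hlim.1 n)
  have hRL := TildeRL.rl_tilde (CommRingCat.of A) (rl_of_limit (t := t) (a := a) ha
    (by
      intro i x hx
      funext k
      refine hlim.2.1 _ _ fun n => ?_
      exact (congrFun (hx n) k).trans (map_zero (π n)).symm)
    (by
      intro i y hy
      have h1 : ∀ k : Fin (r i), ∃ x : A, ∀ n, π n x = (show Fin (r i) → A' n from y n) k := by
        intro k
        refine hlim.2.2 (fun n => (show Fin (r i) → A' n from y n) k) fun n => ?_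
        exact congrFun (hy n) k
      choose x hx using h1
      exact ⟨x, fun n => funext fun k => hx k n⟩)
    (by
      intro n i y
      obtain ⟨x, hx⟩ := LiftAlg.redS_surj (φ n) (hsurj n) (r i) y
      exact ⟨x, hx⟩))
  -- comparison of the towers on `Spec A`
  let θ : ∀ n, (⟨Spec (CommRingCat.of (A' n)), DerivedCategory.Q.obj ((tcx (CommRingCat.of (A' n))).obj (F n).toCx)⟩ :
      Tot dPull.{u}) ⟶ ⟨Spec (CommRingCat.of A), DerivedCategory.Q.obj ((tcx (CommRingCat.of A)).obj (G' n))⟩ :=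
    fun n => Θ (CommRingCat.ofHom (π n)) (𝟙 (G' n))
  have hθ : ∀ n, IsCocart (ver (P := dPull.{u}) (ε n).hom ≫ θ n) := by
    intro n
    have h1 : IsIso (ver (P := dPull.{u}) (ε n).hom) := isIso_ver _
    exact (isCocart_of_isIso _).comp (isCocart_Θ (CommRingCat.ofHom (π n)) (𝟙 (G' n)))
  have hi : ∀ n, ∃ i : DerivedCategory.Q.obj ((tcx (CommRingCat.of A)).obj (G' n)) ≅ Qn n,
      c n ≫ ver (P := dPull.{u}) i.hom = ver (P := dPull.{u}) (ε n).hom ≫ θ n := by
    intro n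
    refine (hcc n).exists_iso (hθ n) ?_
    rw [hc, comp_base, Θ_base]
    exact (Category.id_comp _).symm
  choose i hi using hi
  have hver : ∀ n, θ n ≫ ver (P := dPull.{u}) (DerivedCategory.Q.map ((tcx (CommRingCat.of A)).map (t n))) =
      Θ (CommRingCat.ofHom (φ n)) (redCx (CommRingCat.ofHom (φ n)) (hF n)) ≫ θ (n + 1) := by
    intro n
    refine (Θ_ver (CommRingCat.ofHom (π n)) (𝟙 (G' n)) (t n)).trans ?_
    refine (Θ_comp (e n) (𝟙 (G' (n + 1))) (redCx (CommRingCat.ofHom (φ n)) (hF n)) (t n ≫ 𝟙 (G' n)) ?_).symm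
    intro i x
    rfl
  have hcomm : ∀ n, DerivedCategory.Q.map ((tcx (CommRingCat.of A)).map (t n)) ≫ (i n).hom =
      (i (n + 1)).hom ≫ tau n := by
    intro n
    refine ver_injective (P := dPull.{u}) ((hcc n).uniq rfl ?_)
    rw [← ver_comp_ver, ← ver_comp_ver, ← Category.assoc, hi, Category.assoc, hver, ← Category.assoc, hε,
      Category.assoc, ← hi, ← Category.assoc, htau, Category.assoc]
  obtain ⟨Φ, hΦ⟩ := hRL.exists_iso hL i hcomm
  constructor
  · intro m
    refine Groth.Agent.PerfA.PerfLocal.isPseudoCoherentD_of_iso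
      ((TildeRL.tQ (CommRingCat.of A)).app G.toCx ≪≫ Φ) ?_
    have hpl : PreservesFiniteLimits (tilde.functor (CommRingCat.of A)) :=
      Groth.Agent.PerfB.TildeExact.preservesFiniteLimits_tilde (CommRingCat.of A)
    refine (Groth.Agent.S1004.result A (DerivedCategory.Q.obj G.toCx) m).2 ?_
    refine (Groth.Agent.S2066.result (DerivedCategory.Q.obj G.toCx)).1.2 ?_ m
    refine ⟨G.toCx, b, ?_, ?_, ⟨Iso.refl _⟩⟩
    · intro i hi
      rw [ModuleCat.isZero_iff_subsingleton]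
      exact ⟨fun x y => fin_zero (hr i hi.le) x y⟩
    · intro i
      exact ⟨(inferInstance : Module.Finite A (Fin (r i) → A)), (inferInstance : Module.Free A (Fin (r i) → A))⟩
  · intro n
    have h1 : IsIso (ver (P := dPull.{u}) Φ.hom) := isIso_ver _
    have h2 : IsIso (ver (P := dPull.{u}) (ε n).hom) := isIso_ver _
    have h3 : c n ≫ ver (P := dPull.{u}) (lam n) ≫ ver (P := dPull.{u}) Φ.hom =
        ver (P := dPull.{u}) (ε n).hom ≫ Θ (CommRingCat.ofHom (π n)) (a n ≫ 𝟙 (G' n)) := by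
      rw [ver_comp_ver, hΦ, ← ver_comp_ver, ← Category.assoc, hi, Category.assoc]
      refine congrArg _ ?_
      exact Θ_ver (CommRingCat.ofHom (π n)) (𝟙 (G' n)) (a n)
    have h4 : IsCart (c n ≫ ver (P := dPull.{u}) (lam n) ≫ ver (P := dPull.{u}) Φ.hom) := by
      rw [h3, Category.comp_id]
      exact (Groth.Agent.PerfB.BCTot.Tot.isCart_of_isIso _).comp (isCart_Θ_red hr (hG n))
    rw [← Category.assoc] at h4
    exact (isCart_comp_iff (Groth.Agent.PerfB.BCTot.Tot.isCart_of_isIso _)).1 h4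

end Tower

end K225.AffArr
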