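import Groth.Agent.FlatMor.K225.Twist
import Groth.Agent.Fixpt.H313.Proj
import Groth.Agent.PerfA.GenPull
import Groth.Agent.Dcoh.DerPull
import Groth.Agent.S1008
import Mathlib.CategoryTheory.Monoidal.Rigid.Braided

/-!
# Detecting isomorphisms by direct images of twists
-/

set_option autoImplicit false

universe u

open CategoryTheory CategoryTheory.Limits AlgebraicGeometry MonoidalCategory Pretriangulated

attribute [local instance] HasDerivedCategory.standard

open scoped Groth.Agent.Dcoh.MonCat Groth.Agent.Dcoh.ModD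

namespace K225.Twist

open Groth.Agent Groth.Agent.Dcoh Groth.Agent.PerfB.BCTot Groth.Agent.PerfB.BCTot.Tot
  Groth.Agent.PerfB.BCSch TensTot HoLim Groth.Agent.PerfC.IsoLocus

attribute [local instance] Groth.Agent.PerfB.BCSch.hasLpull Groth.Agent.Dcoh.DerSch.hasRpush
attribute [local instance] Fixpt.H313.DX.brDX Fixpt.H313.DX.brPull

variable {X Y S : Scheme.{u}}

lemma exists_shift_iso (g : Y ⟶ S) (A : DCoh.D Y) (m : ℤ) :
    ∃ G : DCoh.D S, Nonempty ((tensorLeft A).obj ((dPull.{u}.pull g).obj G) ≅ A⟦m⟧) := by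
  obtain ⟨_, _⟩ := isTriang_tensorLeft A
  let _ : (dPull.{u}.pull g).CommShift ℤ := Groth.Agent.Dcoh.DerPull.lpullCommShift g
  refine ⟨(𝟙_ (DCoh.D S))⟦m⟧, ⟨?_⟩⟩
  exact (tensorLeft A).mapIso (((dPull.{u}.pull g).commShiftIso m).app (𝟙_ (DCoh.D S))) ≪≫
    ((tensorLeft A).commShiftIso m).app ((dPull.{u}.pull g).obj (𝟙_ (DCoh.D S))) ≪≫
    (shiftFunctor (DCoh.D Y) m).mapIso ((tensorLeft A).mapIso
      (Functor.Monoidal.εIso (dPull.{u}.pull g)).symm ≪≫ ρ_ A)

/-- A morphism is an isomorphism if its twists by perfect objects have isomorphic direct images. -/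
theorem isIso_of_twists [CompactSpace X] [QuasiSeparatedSpace X] (j : Y ⟶ X) [IsAffineHom j] (g : Y ⟶ S)
    {L' K : DCoh.D Y} (hL' : DCoh.IsQCohD L') (hK : DCoh.IsQCohD K) (v : L' ⟶ K)
    (h : ∀ E : DCoh.D X, DCoh.IsPerfect E →
      IsIso ((DCoh.Rpush g).map ((dPull.{u}.pull j).obj E ◁ v))) : IsIso v := by
  obtain ⟨P, hP, hgen⟩ := Groth.Agent.S1008.result X
  obtain ⟨E, hE, ⟨hPE⟩⟩ := PerfDual.exists_exactPairing P hP
  let _ : ExactPairing E P := BraidedCategory.exactPairing_swap P E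
  let A := (dPull.{u}.pull j).obj E
  let A' := (dPull.{u}.pull j).obj P
  let _ : ExactPairing A A' := Fixpt.H313.Proj.mapP (dPull.{u}.pull j) E P
  obtain ⟨C, x, w, hT⟩ := distinguished_cocone_triangle v
  have hC : DCoh.IsQCohD C := (DCoh.IsQCohD (X := Y)).ext_of_isTriangulatedClosed₃ _ hT hL' hK
  refine (Triangle.isZero₃_iff_isIso₁ _ hT).1 ?_
  -- the direct image of the twist vanishes
  have h0 : IsZero ((DCoh.Rpush g).obj (A ⊗ C)) := by
    obtain ⟨_, _⟩ := isTriang_tensorLeft A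
    let _ := Groth.Agent.Dcoh.DerSch.rpushCommShift g
    have := Groth.Agent.Dcoh.DerSch.rpush_isTriangulated g
    have h1 := (DCoh.Rpush g).map_distinguished _ ((tensorLeft A).map_distinguished _ hT)
    exact (Triangle.isZero₃_iff_isIso₁ _ h1).2 (h E hE)
  refine Groth.Agent.PerfA.GenPull.generator_of_adj j (DCoh.Lpull j) (Groth.Agent.PerfB.BCShift.lAdj j) P
    (fun E hE => (hgen E hE).2) C hC fun m ψ => ?_
  obtain ⟨G, ⟨i⟩⟩ := exists_shift_iso g A' m
  have h2 : i.hom ≫ ψ = 0 := by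
    let adj := (Groth.Agent.PerfB.BCShift.lAdj g).comp (tensorLeftAdjunction A A')
    apply (adj.homEquiv G C).injective
    exact h0.eq_of_tgt _ _
  have h3 : i.hom ≫ ψ = i.hom ≫ 0 := by rw [h2, comp_zero]
  exact (cancel_epi i.hom).1 h3

end K225.Twist
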