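import Groth.Agent.FlatMor.K225.RL
import Groth.Agent.PerfA.QCLim

/-!
# Homotopy limits in `D_QCoh(O_X)`
-/

set_option autoImplicit false

universe u

open CategoryTheory CategoryTheory.Limits AlgebraicGeometry Pretriangulated

attribute [local instance] HasDerivedCategory.standard

namespace K225.RLExist

open HoLim Groth.Agent.LoccohB.DQCohTri

/-- Homotopy limits exist in `D_QCoh(O_X)`. -/
theorem exists_rl (X : Scheme.{u}) [CompactSpace X] [QuasiSeparatedSpace X] (M : ℕ → DCoh.D X)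
    (hM : ∀ n, DCoh.IsQCohD (M n)) (t : ∀ n, M (n + 1) ⟶ M n) :
    ∃ (L : DCoh.D X) (a : ∀ n, L ⟶ M n), RL (DCoh.IsQCohD (X := X)) M t L a := by
  have := Groth.Agent.PerfA.QCLim.hasProductsOfShape_nat X
  let M' : ℕ → DCoh.DQCoh X := fun n => ⟨M n, hM n⟩
  let P : DCoh.DQCoh X := ∏ᶜ M'
  let pr : ∀ n, P.obj ⟶ M n := fun n => (ObjectProperty.ι (DCoh.IsQCohD (X := X))).map (Pi.π M' n)
  have hlift : ∀ Z : DCoh.D X, DCoh.IsQCohD Z → ∀ f : (∀ n, Z ⟶ M n), ∃ g : Z ⟶ P.obj, ∀ n, g ≫ pr n = f n := by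
    intro Z hZ f
    let Z' : DCoh.DQCoh X := ⟨Z, hZ⟩
    refine ⟨(ObjectProperty.ι (DCoh.IsQCohD (X := X))).map
      (Pi.lift (fun n => (ObjectProperty.fullyFaithfulι (DCoh.IsQCohD (X := X))).preimage (f n) : ∀ n, Z' ⟶ M' n)), ?_⟩
    intro n
    rw [← Functor.map_comp, Pi.lift_π, Functor.FullyFaithful.map_preimage]
  have huniq : ∀ Z : DCoh.D X, DCoh.IsQCohD Z → ∀ g g' : Z ⟶ P.obj, (∀ n, g ≫ pr n = g' ≫ pr n) → g = g' := by
    intro Z hZ g g' h
    let Z' : DCoh.DQCoh X := ⟨Z, hZ⟩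
    obtain ⟨k, rfl⟩ := (ObjectProperty.ι (DCoh.IsQCohD (X := X))).map_surjective (X := Z') (Y := P) g
    obtain ⟨k', rfl⟩ := (ObjectProperty.ι (DCoh.IsQCohD (X := X))).map_surjective (X := Z') (Y := P) g'
    congr 1
    refine Pi.hom_ext _ _ fun n => ?_
    apply (ObjectProperty.ι (DCoh.IsQCohD (X := X))).map_injective
    rw [Functor.map_comp, Functor.map_comp]
    exact h n
  obtain ⟨sh, hsh⟩ := hlift P.obj P.property (fun n => pr n - pr (n + 1) ≫ t n)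
  obtain ⟨L, x, w, hT⟩ := distinguished_cocone_triangle₁ sh
  have hL : DCoh.IsQCohD L :=
    ObjectProperty.ext_of_isTriangulatedClosed₁ (DCoh.IsQCohD (X := X)) _ hT P.property P.property
  exact ⟨L, fun n => x ≫ pr n, P.obj, pr, sh, x, w, P.property, hL, ⟨hlift, huniq⟩, hsh, fun _ => rfl, hT⟩

end K225.RLExist
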