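import Groth.Agent.FlatMor.K225.Detect
import Groth.Agent.FlatMor.K225.RLExist
import Groth.Agent.Dual.H359.CompFin
import Groth.Agent.KSix.K240.RelBasic
import Groth.Agent.S7229

/-!
# Derived Grothendieck existence
-/

set_option autoImplicit false

universe u

open CategoryTheory CategoryTheory.Limits AlgebraicGeometry MonoidalCategory Pretriangulated

attribute [local instance] HasDerivedCategory.standard

open scoped Groth.Agent.Dcoh.MonCat Groth.Agent.Dcoh.ModD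

namespace K225.Final

open Groth.Agent Groth.Agent.Dcoh Groth.Agent.PerfB.BCTot Groth.Agent.PerfB.BCTot.Tot
  Groth.Agent.PerfB.BCSch TheoremB Twist

attribute [local instance] Groth.Agent.PerfB.BCSch.hasLpull Groth.Agent.Dcoh.DerSch.hasRpush

/-- The tensor product of pseudo-coherent objects. -/
lemma pc_tensor {X : Scheme.{u}} (M K : DCoh.D X) (hM : ∀ m : ℤ, DCoh.IsPseudoCoherentD m M)
    (hK : ∀ m : ℤ, DCoh.IsPseudoCoherentD m K) (m : ℤ) : DCoh.IsPseudoCoherentD m (M ⊗ K) := by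
  obtain ⟨e⟩ := PerfDual.nonempty_objIso M
  exact Groth.Agent.PerfA.PerfLocal.isPseudoCoherentD_of_iso (e.app K)
    (Groth.Agent.Dual.H359.CompFin.pc_tensor hM hK m)

variable {A : Type u} [CommRing A] {A' : ℕ → Type u} [∀ n, CommRing (A' n)] {φ : ∀ n, A' (n + 1) →+* A' n}
  {π : ∀ n, A →+* A' n} {X : Scheme.{u}} {f : X ⟶ Spec (CommRingCat.of A)}
  {Xn : ℕ → Scheme.{u}} {j : ∀ n, Xn n ⟶ X} {g : ∀ n, Xn n ⟶ Spec (CommRingCat.of (A' n))}
  {ι : ∀ n, Xn n ⟶ Xn (n + 1)}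

/-- The tower attached to the data. -/
theorem exists_tower [CompactSpace X] [QuasiSeparatedSpace X] [∀ n, QuasiCompact (j n)]
    [∀ n, QuasiSeparated (j n)] (hιj : ∀ n, ι n ≫ j (n + 1) = j n)
    (K : ∀ n, DCoh.D (Xn n)) (hK : ∀ n (m : ℤ), DCoh.IsPseudoCoherentD m (K n))
    (e : ∀ n, (dPull.{u}.pull (ι n)).obj (K (n + 1)) ≅ K n) :
    ∃ T : Tower j ι, T.K = K := by
  let m : ∀ n, (⟨Xn n, K n⟩ : Tot dPull.{u}) ⟶ ⟨Xn (n + 1), K (n + 1)⟩ := fun n => ⟨ι n, (e n).hom⟩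
  let M : ℕ → DCoh.D X := fun n => (DCoh.Rpush (j n)).obj (K n)
  have hM : ∀ n, DCoh.IsQCohD (M n) := fun n =>
    Groth.Agent.S0998.result (j n) (K n) (Groth.Agent.PerfA.PCohQCoh.isQCohD_of_isPseudoCoherentD (hK n))
  let c := fun n => push (j n) (K n)
  have hc : ∀ n, IsCocart (c n) := fun n => isCocart_push _ _
  have ht : ∀ n, ∃ t : M (n + 1) ⟶ M n, m n ≫ c (n + 1) = c n ≫ ver (P := dPull.{u}) t := by
    intro n
    obtain ⟨s, hs, hs'⟩ := (hc n).desc (m n ≫ c (n + 1)) (𝟙 X) (by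
      rw [comp_base, Category.comp_id]
      exact (hιj n).symm)
    obtain ⟨t, rfl⟩ := exists_ver (P := dPull.{u}) s hs
    exact ⟨t, hs'.symm⟩
  choose t ht using ht
  obtain ⟨L, a, hL⟩ := RLExist.exists_rl X M hM t
  exact ⟨Tower.mk K hK m (fun _ => rfl) (fun n => (inferInstance : IsIso (e n).hom)) M hM c
    (fun _ => rfl) hc t ht L a hL, rfl⟩

/-- **Derived Grothendieck existence.** -/
theorem main (hlim : FlatCA.IsRingLimit A A' φ π) (hsurj : ∀ n, Function.Surjective (φ n))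
    (hnil : ∀ n, ∀ x ∈ RingHom.ker (φ n), IsNilpotent x)
    [IsProper f] [Flat f] [LocallyOfFinitePresentation f]
    (hpb : ∀ n, IsPullback (j n) (g n) f (Spec.map (CommRingCat.ofHom (π n))))
    (hιj : ∀ n, ι n ≫ j (n + 1) = j n)
    (hιg : ∀ n, ι n ≫ g (n + 1) = g n ≫ Spec.map (CommRingCat.ofHom (φ n)))
    (K : ∀ n, DCoh.D (Xn n)) (hK : ∀ n (m : ℤ), DCoh.IsPseudoCoherentD m (K n))
    (e : ∀ n, (dPull.{u}.pull (ι n)).obj (K (n + 1)) ≅ K n) :
    ∃ L : DCoh.D X, (∀ m : ℤ, DCoh.IsPseudoCoherentD m L) ∧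
      ∀ n, Nonempty ((dPull.{u}.pull (j n)).obj L ≅ K n) := by
  have : CompactSpace X := QuasiCompact.compactSpace_of_compactSpace f
  have : QuasiSeparatedSpace X := quasiSeparatedSpace_of_quasiSeparated f
  have hja : ∀ n, IsAffineHom (j n) := fun n => MorphismProperty.of_isPullback (hpb n).flip inferInstance
  obtain ⟨T, rfl⟩ := exists_tower hιj K hK e
  -- the main theorem for the twists
  have key : ∀ E : DCoh.D X, DCoh.IsPerfect E →
      (∀ k : ℤ, DCoh.IsPseudoCoherentD k ((DCoh.Rpush f).obj (E ⊗ T.L))) ∧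
      ∀ n (L' : DCoh.D (Xn n)) (q : (⟨Xn n, L'⟩ : Tot dPull.{u}) ⟶ ⟨X, T.L⟩) (_ : q.base = j n) (_ : IsCart q)
      (v : L' ⟶ T.K n) (_ : T.c n ≫ ver (T.a n) = ver v ≫ q),
      IsIso ((DCoh.Rpush (g n)).map ((dPull.{u}.pull (j n)).obj E ◁ v)) := by
    intro E hE
    obtain ⟨T', hL, hT'⟩ := exists_twist T hιj (fun n M K hM hK => pc_tensor M K hM hK) E hE
    obtain ⟨h1, h2⟩ := TheoremB.main T' hlim hsurj hnil hpb hιj hιg
    refine ⟨fun k => hL ▸ h1 k, ?_⟩
    intro n L' q hq hqc v hv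
    obtain ⟨q', hq', hqc', hKK, hv'⟩ := hT' n L' q hq hqc v hv
    have h3 := h2 n _ q' hq' hqc' _ hv'
    rw [Functor.map_comp] at h3
    exact IsIso.of_isIso_comp_right _ ((DCoh.Rpush (g n)).map (eqToHom hKK.symm))
  refine ⟨T.L, ?_, fun n => ?_⟩
  · -- pseudo-coherence
    let G := DerivedCategory.Q.objPreimage T.L
    let i : DCoh.toD X G ≅ T.L := DerivedCategory.Q.objObjPreimageIso T.L
    have := ModTens.hasLTensorCx G
    have h1 : DerSch.IsPseudoCoherentRelAll f (DCoh.toD X G) := by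
      refine Groth.Agent.S7229.result A f G
        ((DCoh.IsQCohD (X := X)).prop_of_iso i.symm T.rl.prop) fun E hE k => ?_
      refine Groth.Agent.PerfA.PerfLocal.isPseudoCoherentD_of_iso ?_ ((key E hE).1 k)
      exact (DCoh.Rpush f).mapIso ((MonoidalCategory.whiskerLeftIso E i.symm) ≪≫
        ((ModTens.LTensorCxIso G).app E).symm)
    intro m
    exact Groth.Agent.PerfA.PerfLocal.isPseudoCoherentD_of_iso i
      ((K240.RelBasic.isPseudoCoherentRel_flat_iff f m (DCoh.toD X G)).1 (h1 m))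
  · -- the comparison
    obtain ⟨k, hk, hk'⟩ := (isCart_cartLift (⟨X, T.L⟩ : Tot dPull.{u}) (j n)).lift (T.c n ≫ ver (T.a n))
      (𝟙 (Xn n)) (by
        rw [comp_base, T.c_base]
        exact (Category.id_comp _).trans (Category.comp_id _).symm)
    obtain ⟨v, rfl⟩ := exists_ver (P := dPull.{u}) k hk
    have hv : IsIso v := by
      refine isIso_of_twists (j n) (g n) (Groth.Agent.S1054.result (j n) T.L T.rl.prop)
        (Groth.Agent.PerfA.PCohQCoh.isQCohD_of_isPseudoCoherentD (T.pc n)) v fun E hE => ?_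
      exact (key E hE).2 n _ (cartLift (⟨X, T.L⟩ : Tot dPull.{u}) (j n)) rfl (isCart_cartLift _ _) v hk'.symm
    exact ⟨asIso v⟩

end K225.Final
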