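import Mathlib.RingTheory.Nakayama
import Mathlib.RingTheory.Finiteness.Cardinality
import Mathlib.Algebra.Module.Projective
import Mathlib.LinearAlgebra.StdBasis
import Mathlib.RingTheory.Finiteness.Prod
import Mathlib.RingTheory.Jacobson.Ideal

/-!
# Lifting complexes of finite free modules along a surjection with locally nilpotent kernel: linear algebra

`φ : R → R'` is surjective with kernel `I` contained in the Jacobson radical, `P` is a complex of finite projective
`R`-modules (homologically indexed by `ℕ`), `F'` is a complex of finite free `R'`-modules with given bases, and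
`u : P → F'` is a surjective `φ`-semilinear map of complexes such that the kernel of `P / I P → F'` is acyclic.  We
construct a complex `F` of finite free `R`-modules with bases lifting `F'` and a quasi-isomorphism `w : F → P` with
`u ∘ w` the reduction map.
-/

set_option autoImplicit false
set_option linter.unusedSectionVars false

universe u

namespace K225.LiftAlg

section

variable {R R' : Type u} [CommRing R] [CommRing R'] (φ : R →+* R')
  {P : ℕ → Type u} [∀ k, AddCommGroup (P k)] [∀ k, Module R (P k)]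
  (d : ∀ k, P (k + 1) →ₗ[R] P k) {r : ℕ → ℕ} (u : ∀ k, P k →ₛₗ[φ] (Fin (r k) → R'))

/-- The cycles of the cone constructed so far, with the maps from and to `P`. -/
structure Stage (k : ℕ) where
  Z : Type u
  [acg : AddCommGroup Z]
  [mod : Module R Z]
  [fin : Module.Finite R Z]
  [proj : Module.Projective R Z]
  ρ : Z →ₗ[R] P k
  β : P (k + 1) →ₗ[R] Z
  ρβ : ∀ x, ρ (β x) = d k x
  βd : ∀ x, β (d (k + 1) x) = 0
  surj : ∀ y : Fin (r k) → R', ∃ z, u k (ρ z) = y
  ker : ∀ z, u k (ρ z) = 0 → ∃ x, u (k + 1) x = 0 ∧ z - β x ∈ RingHom.ker φ • (⊤ : Submodule R Z)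

attribute [instance] Stage.acg Stage.mod Stage.fin Stage.proj

namespace Stage

variable {φ d u} {k : ℕ} (s : Stage φ d u k)

/-- The map from the next free module to the cycles. -/
noncomputable def θ : (Fin (r k) → R) →ₗ[R] s.Z :=
  (Pi.basisFun R (Fin (r k))).constr R (fun j => (s.surj (Pi.single j 1)).choose)

lemma θ_apply (y : Fin (r k) → R) : s.θ y = ∑ j, y j • (s.surj (Pi.single j 1)).choose := by
  rw [θ, Module.Basis.constr_apply_fintype]
  rfl

lemma uρθ (y : Fin (r k) → R) : u k (s.ρ (s.θ y)) = fun j => φ (y j) := by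
  rw [θ_apply, map_sum, map_sum]
  have h : ∀ j, u k (s.ρ (y j • (s.surj (Pi.single j 1)).choose)) = φ (y j) • Pi.single j 1 := by
    intro j
    rw [map_smul, LinearMap.map_smulₛₗ, (s.surj (Pi.single j 1)).choose_spec]
  rw [Finset.sum_congr rfl fun j _ => h j]
  ext i
  rw [Finset.sum_apply]
  simp [Pi.single_apply]

/-- The differential of the cone, onto the cycles. -/
noncomputable def f : ((Fin (r k) → R) × P (k + 1)) →ₗ[R] s.Z := s.θ.coprod s.β

@[simp] lemma f_apply (c : (Fin (r k) → R) × P (k + 1)) : s.f c = s.θ c.1 + s.β c.2 := rfl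

variable (hφ : Function.Surjective φ) (hI : RingHom.ker φ ≤ Ideal.jacobson ⊥)

include hφ hI in
lemma f_surj : Function.Surjective s.f := by
  rw [← LinearMap.range_eq_top, eq_top_iff]
  refine Submodule.le_of_le_smul_of_le_jacobson_bot Module.Finite.fg_top hI ?_
  intro z _
  choose y hy using hφ
  have h1 : u k (s.ρ (z - s.θ (fun j => y (u k (s.ρ z) j)))) = 0 := by
    rw [map_sub, map_sub, s.uρθ]
    ext j
    simp [hy]
  obtain ⟨x, -, hx⟩ := s.ker _ h1
  have h2 : z = s.f (fun j => y (u k (s.ρ z) j), x) + (z - s.θ (fun j => y (u k (s.ρ z) j)) - s.β x) := by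
    rw [f_apply]; abel
  rw [h2]
  exact Submodule.add_mem_sup ⟨_, rfl⟩ hx

variable [∀ k, Module.Finite R (P k)] [∀ k, Module.Projective R (P k)]

lemma exists_retr (h : Function.Surjective s.f) : ∃ p : ((Fin (r k) → R) × P (k + 1)) →ₗ[R] LinearMap.ker s.f,
    ∀ c : LinearMap.ker s.f, p c.1 = c := by
  obtain ⟨g, hg⟩ := Module.projective_lifting_property s.f LinearMap.id h
  refine ⟨LinearMap.codRestrict _ (LinearMap.id - g ∘ₗ s.f) ?_, ?_⟩
  · intro c
    rw [LinearMap.mem_ker]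
    have := LinearMap.congr_fun hg (s.f c)
    simp only [LinearMap.coe_comp, Function.comp_apply, LinearMap.id_coe, id_eq] at this
    simp only [LinearMap.sub_apply, LinearMap.id_coe, id_eq, LinearMap.coe_comp, Function.comp_apply, map_sub,
      this, sub_self]
  · intro c
    ext1
    have := c.2
    rw [LinearMap.mem_ker] at this
    simp [LinearMap.codRestrict_apply, this]

lemma mem_smul_of_retr {M : Type u} [AddCommGroup M] [Module R M] (N : Submodule R M) (p : M →ₗ[R] N)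
    (hp : ∀ c : N, p c.1 = c) (I : Ideal R) (c : N) (hc : c.1 ∈ I • (⊤ : Submodule R M)) :
    c ∈ I • (⊤ : Submodule R N) := by
  have h1 : p c.1 ∈ Submodule.map p (I • (⊤ : Submodule R M)) := ⟨_, hc, rfl⟩
  rw [Submodule.map_smul''] at h1
  rw [← hp c]
  exact Submodule.smul_mono le_rfl le_top h1

variable (D' : ∀ k, (Fin (r (k + 1)) → R') →ₗ[R'] (Fin (r k) → R'))
  (hud : ∀ k x, u k (d k x) = D' k (u (k + 1) x))
  (hdd : ∀ k x, d k (d (k + 1) x) = 0)
  (hu : ∀ k, Function.Surjective (u k))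
  (hacy : ∀ k z, u (k + 1) z = 0 → d k z ∈ RingHom.ker φ • (⊤ : Submodule R (P k)) →
    ∃ x, u (k + 2) x = 0 ∧ z - d (k + 1) x ∈ RingHom.ker φ • (⊤ : Submodule R (P (k + 1))))

include D' hud hu in
lemma next_surj (hf : Function.Surjective s.f) (hφ : Function.Surjective φ) (x' : Fin (r (k + 1)) → R') :
    ∃ z : LinearMap.ker s.f, u (k + 1) z.1.2 = x' := by
  obtain ⟨x0, hx0⟩ := hu (k + 1) x'
  choose y hy using hφ
  let y1 : Fin (r k) → R := fun j => y (D' k x' j)
  have hy1 : (fun j => φ (y1 j)) = D' k x' := by ext j; exact hy _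
  -- `θ y1 - β x0` lies in the kernel of the reduction
  have h1 : u k (s.ρ (s.β x0 - s.θ y1)) = 0 := by
    rw [map_sub, map_sub, s.ρβ, hud, hx0, s.uρθ, hy1, sub_self]
  obtain ⟨x1, hx1, h2⟩ := s.ker _ h1
  have h3 : (RingHom.ker φ • (⊤ : Submodule R s.Z)) =
      Submodule.map s.f (RingHom.ker φ • (⊤ : Submodule R ((Fin (r k) → R) × P (k + 1)))) := by
    rw [Submodule.map_smul'', Submodule.map_top, LinearMap.range_eq_top.2 hf]
  rw [h3] at h2
  obtain ⟨c, hc, hc'⟩ := h2
  have h4 : u (k + 1) c.2 = 0 := by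
    have h5 : c.2 ∈ RingHom.ker φ • (⊤ : Submodule R (P (k + 1))) := by
      have : c.2 ∈ Submodule.map (LinearMap.snd R (Fin (r k) → R) (P (k + 1)))
        (RingHom.ker φ • (⊤ : Submodule R ((Fin (r k) → R) × P (k + 1)))) := ⟨c, hc, rfl⟩
      rw [Submodule.map_smul''] at this
      exact Submodule.smul_mono le_rfl le_top this
    refine Submodule.smul_induction_on h5 ?_ ?_
    · intro a ha n _
      rw [LinearMap.map_smulₛₗ, (RingHom.mem_ker).1 ha, zero_smul]
    · intro a b ha hb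
      rw [map_add, ha, hb, add_zero]
  refine ⟨⟨(-y1 - c.1, x0 - x1 - c.2), ?_⟩, ?_⟩
  · rw [LinearMap.mem_ker, f_apply]
    have h6 : s.θ c.1 + s.β c.2 = s.β x0 - s.θ y1 - s.β x1 := hc'
    simp only [map_sub, map_neg]
    calc -s.θ y1 - s.θ c.1 + (s.β x0 - s.β x1 - s.β c.2)
        = (s.β x0 - s.θ y1 - s.β x1) - (s.θ c.1 + s.β c.2) := by abel
      _ = 0 := by rw [h6, sub_self]
  · simp only [map_sub, hx0, hx1, h4, sub_zero]

include D' hud hacy in
lemma next_ker (hf : Function.Surjective s.f) (z : LinearMap.ker s.f) (hz : u (k + 1) z.1.2 = 0)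
    (hβd : ∀ x, s.f (0, d (k + 1) x) = 0) :
    ∃ x, u (k + 2) x = 0 ∧ z - ⟨(0, d (k + 1) x), hβd x⟩ ∈
      RingHom.ker φ • (⊤ : Submodule R (LinearMap.ker s.f)) := by
  obtain ⟨⟨y, x⟩, hyx⟩ := z
  have hyx' : s.θ y + s.β x = 0 := hyx
  change u (k + 1) x = 0 at hz
  -- `y ∈ I F`
  have h1 : (fun j => φ (y j)) = 0 := by
    have h2 : u k (s.ρ (s.θ y + s.β x)) = 0 := by rw [hyx', map_zero, map_zero]
    rw [map_add, map_add, s.uρθ, s.ρβ, hud, hz, map_zero, add_zero] at h2
    exact h2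
  have h2 : y ∈ RingHom.ker φ • (⊤ : Submodule R (Fin (r k) → R)) := by
    have : y = ∑ j, y j • Pi.single j (1 : R) := by
      ext i; rw [Finset.sum_apply]; simp [Pi.single_apply]
    rw [this]
    refine Submodule.sum_mem _ fun j _ => Submodule.smul_mem_smul ?_ trivial
    exact congrFun h1 j
  have h3 : d k x ∈ RingHom.ker φ • (⊤ : Submodule R (P k)) := by
    have h4 : s.θ y ∈ RingHom.ker φ • (⊤ : Submodule R s.Z) := by
      have : s.θ y ∈ Submodule.map s.θ (RingHom.ker φ • (⊤ : Submodule R (Fin (r k) → R))) := ⟨y, h2, rfl⟩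
      rw [Submodule.map_smul''] at this
      exact Submodule.smul_mono le_rfl le_top this
    have h5 : s.ρ (s.θ y) ∈ RingHom.ker φ • (⊤ : Submodule R (P k)) := by
      have : s.ρ (s.θ y) ∈ Submodule.map s.ρ (RingHom.ker φ • (⊤ : Submodule R s.Z)) := ⟨_, h4, rfl⟩
      rw [Submodule.map_smul''] at this
      exact Submodule.smul_mono le_rfl le_top this
    have h6 : d k x = - s.ρ (s.θ y) := by
      rw [← s.ρβ, eq_neg_iff_add_eq_zero, ← map_add, add_comm, hyx', map_zero]
    rw [h6]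
    exact neg_mem h5
  obtain ⟨x', hx', h4⟩ := hacy k x hz h3
  obtain ⟨p, hp⟩ := s.exists_retr hf
  refine ⟨x', hx', mem_smul_of_retr _ p hp _ _ ?_⟩
  have h5 : ((y, x - d (k + 1) x') : (Fin (r k) → R) × P (k + 1)) ∈
      RingHom.ker φ • (⊤ : Submodule R ((Fin (r k) → R) × P (k + 1))) := by
    have e : ((y, x - d (k + 1) x') : (Fin (r k) → R) × P (k + 1)) =
        LinearMap.inl R _ _ y + LinearMap.inr R _ _ (x - d (k + 1) x') := by simp
    rw [e]
    refine add_mem ?_ ?_
    · have : LinearMap.inl R (Fin (r k) → R) (P (k + 1)) y ∈ Submodule.map (LinearMap.inl R _ _)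
        (RingHom.ker φ • (⊤ : Submodule R (Fin (r k) → R))) := ⟨y, h2, rfl⟩
      rw [Submodule.map_smul''] at this
      exact Submodule.smul_mono le_rfl le_top this
    · have : LinearMap.inr R (Fin (r k) → R) (P (k + 1)) (x - d (k + 1) x') ∈
        Submodule.map (LinearMap.inr R _ _) (RingHom.ker φ • (⊤ : Submodule R (P (k + 1)))) := ⟨_, h4, rfl⟩
      rw [Submodule.map_smul''] at this
      exact Submodule.smul_mono le_rfl le_top this
  have h6 : ((⟨(y, x), hyx⟩ : LinearMap.ker s.f) - ⟨(0, d (k + 1) x'), hβd x'⟩).1 = (y, x - d (k + 1) x') := by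
    simp
  rw [h6]
  exact h5

end Stage

variable [∀ k, Module.Finite R (P k)] [∀ k, Module.Projective R (P k)]

/-- The hypotheses of the lifting lemma. -/
structure Hyp (D' : ∀ k, (Fin (r (k + 1)) → R') →ₗ[R'] (Fin (r k) → R')) : Prop where
  surj : Function.Surjective φ
  jac : RingHom.ker φ ≤ Ideal.jacobson ⊥
  hud : ∀ k x, u k (d k x) = D' k (u (k + 1) x)
  hdd : ∀ k x, d k (d (k + 1) x) = 0
  hu : ∀ k, Function.Surjective (u k)
  hacy0 : ∀ z, u 0 z = 0 → ∃ x, u 1 x = 0 ∧ z - d 0 x ∈ RingHom.ker φ • (⊤ : Submodule R (P 0))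
  hacy : ∀ k z, u (k + 1) z = 0 → d k z ∈ RingHom.ker φ • (⊤ : Submodule R (P k)) →
    ∃ x, u (k + 2) x = 0 ∧ z - d (k + 1) x ∈ RingHom.ker φ • (⊤ : Submodule R (P (k + 1)))

variable {φ d u} {D' : ∀ k, (Fin (r (k + 1)) → R') →ₗ[R'] (Fin (r k) → R')} (H : Hyp φ d u D')

namespace Hyp

include H in
lemma f_surj {k : ℕ} (s : Stage φ d u k) : Function.Surjective s.f := s.f_surj H.surj H.jac

include H in
lemma fβd {k : ℕ} (s : Stage φ d u k) (x : P (k + 2)) : s.f (0, d (k + 1) x) = 0 := by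
  rw [Stage.f_apply, s.βd, map_zero, add_zero]

/-- The next stage. -/
noncomputable def next {k : ℕ} (s : Stage φ d u k) : Stage φ d u (k + 1) :=
  haveI : Module.Finite R (LinearMap.ker s.f) := by
    obtain ⟨p, hp⟩ := s.exists_retr (H.f_surj s)
    exact Module.Finite.of_surjective p (fun c => ⟨c.1, hp c⟩)
  haveI : Module.Projective R (LinearMap.ker s.f) := by
    obtain ⟨p, hp⟩ := s.exists_retr (H.f_surj s)
    exact Module.Projective.of_split (LinearMap.ker s.f).subtype p (LinearMap.ext hp)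
  { Z := LinearMap.ker s.f
    ρ := (LinearMap.snd R (Fin (r k) → R) (P (k + 1))).comp (LinearMap.ker s.f).subtype
    β := LinearMap.codRestrict _ ((LinearMap.inr R (Fin (r k) → R) (P (k + 1))).comp (d (k + 1)))
      (fun x => H.fβd s x)
    ρβ := fun x => rfl
    βd := fun x => by
      ext1
      change ((0 : Fin (r k) → R), d (k + 1) (d (k + 2) x)) = 0
      rw [H.hdd]
      rfl
    surj := fun y => s.next_surj D' H.hud H.hu (H.f_surj s) H.surj y
    ker := fun z hz => s.next_ker D' H.hud H.hacy (H.f_surj s) z hz (H.fβd s) }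

/-- The first stage. -/
noncomputable def zero : Stage φ d u 0 where
  Z := P 0
  ρ := LinearMap.id
  β := d 0
  ρβ x := rfl
  βd := H.hdd 0
  surj y := H.hu 0 y
  ker z hz := H.hacy0 z hz

/-- All stages. -/
noncomputable def stage : ∀ k, Stage φ d u k
  | 0 => H.zero
  | k + 1 => H.next (stage k)

/-- The map to `P`. -/
noncomputable def w (k : ℕ) : (Fin (r k) → R) →ₗ[R] P k := (H.stage k).ρ ∘ₗ (H.stage k).θ

/-- The inclusion of the cycles in the cone. -/
noncomputable def inc (k : ℕ) : (H.stage (k + 1)).Z →ₗ[R] ((Fin (r k) → R) × P (k + 1)) :=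
  (LinearMap.ker (H.stage k).f).subtype

lemma inc_f (k : ℕ) (z : (H.stage (k + 1)).Z) : (H.stage k).f (H.inc k z) = 0 := z.2

lemma inc_inj (k : ℕ) : Function.Injective (H.inc k) := Subtype.val_injective

lemma exists_inc (k : ℕ) (c : (Fin (r k) → R) × P (k + 1)) (h : (H.stage k).f c = 0) :
    ∃ z, H.inc k z = c := ⟨⟨c, h⟩, rfl⟩

lemma inc_snd (k : ℕ) (z : (H.stage (k + 1)).Z) : (H.inc k z).2 = (H.stage (k + 1)).ρ z := rfl

lemma inc_β (k : ℕ) (x : P (k + 2)) : H.inc k ((H.stage (k + 1)).β x) = (0, d (k + 1) x) := rfl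

/-- The differential of the lift. -/
noncomputable def D (k : ℕ) : (Fin (r (k + 1)) → R) →ₗ[R] (Fin (r k) → R) :=
  -(LinearMap.fst R _ _ ∘ₗ H.inc k ∘ₗ (H.stage (k + 1)).θ)

lemma inc_θ (k : ℕ) (y : Fin (r (k + 1)) → R) :
    H.inc k ((H.stage (k + 1)).θ y) = (-H.D k y, H.w (k + 1) y) := by
  refine Prod.ext ?_ rfl
  simp [D]

lemma rel (k : ℕ) (y : Fin (r (k + 1)) → R) :
    (H.stage k).θ (H.D k y) = (H.stage k).β (H.w (k + 1) y) := by
  have h := H.inc_f k ((H.stage (k + 1)).θ y)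
  rw [inc_θ, Stage.f_apply] at h
  simp only [map_neg] at h
  rw [neg_add_eq_zero] at h
  exact h

lemma w_D (k : ℕ) (y : Fin (r (k + 1)) → R) : H.w k (H.D k y) = d k (H.w (k + 1) y) := by
  have h := congrArg (H.stage k).ρ (H.rel k y)
  rw [(H.stage k).ρβ] at h
  exact h

lemma D_D (k : ℕ) (y : Fin (r (k + 2)) → R) : H.D k (H.D (k + 1) y) = 0 := by
  have h := congrArg (fun z => (H.inc k z).1) (H.rel (k + 1) y)
  simp only [inc_θ, inc_β] at h
  exact neg_eq_zero.1 h

lemma u_w (k : ℕ) (y : Fin (r k) → R) : u k (H.w k y) = fun j => φ (y j) := (H.stage k).uρθ y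

lemma red (k : ℕ) (y : Fin (r (k + 1)) → R) :
    (fun j => φ (H.D k y j)) = D' k (fun j => φ (y j)) := by
  rw [← H.u_w k, H.w_D, H.hud, H.u_w]

lemma exact0 (x : P 0) : ∃ y x', x = H.w 0 y + d 0 x' := by
  obtain ⟨⟨y, x'⟩, h⟩ := H.f_surj (H.stage 0) x
  exact ⟨y, x', h.symm⟩

lemma exact1 (y : Fin (r 0) → R) (x : P 1) (h : H.w 0 y = d 0 x) :
    ∃ z x', y = H.D 0 z ∧ x = H.w 1 z + d 1 x' := by
  obtain ⟨z, hz⟩ := H.exists_inc 0 (-y, x) (by
    rw [Stage.f_apply]
    have h1 : (H.stage 0).θ y = (H.stage 0).β x := h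
    rw [map_neg, h1, neg_add_cancel])
  obtain ⟨⟨z', x'⟩, hz'⟩ := H.f_surj (H.stage 1) z
  rw [Stage.f_apply] at hz'
  have h2 : H.inc 0 ((H.stage 1).θ z') + H.inc 0 ((H.stage 1).β x') = (-y, x) := by
    rw [← map_add, hz', hz]
  rw [inc_θ, inc_β] at h2
  refine ⟨z', x', ?_, ?_⟩
  · have := congrArg Prod.fst h2
    simp only [Prod.fst_add, add_zero] at this
    exact (neg_inj.1 this).symm
  · exact (congrArg Prod.snd h2).symm

lemma exact2 (k : ℕ) (y : Fin (r (k + 1)) → R) (x : P (k + 2)) (h : H.D k y = 0)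
    (h' : H.w (k + 1) y = d (k + 1) x) : ∃ z x', y = H.D (k + 1) z ∧ x = H.w (k + 2) z + d (k + 2) x' := by
  obtain ⟨z, hz⟩ := H.exists_inc (k + 1) (-y, x) (by
    rw [Stage.f_apply]
    apply H.inc_inj k
    rw [map_add, map_neg, map_neg, inc_θ, inc_β, map_zero, h]
    refine Prod.ext ?_ ?_
    · simp
    · simp [h'])
  obtain ⟨⟨z', x'⟩, hz'⟩ := H.f_surj (H.stage (k + 2)) z
  rw [Stage.f_apply] at hz'
  have h2 : H.inc (k + 1) ((H.stage (k + 2)).θ z') + H.inc (k + 1) ((H.stage (k + 2)).β x') = (-y, x) := by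
    rw [← map_add, hz', hz]
  rw [inc_θ, inc_β] at h2
  refine ⟨z', x', ?_, ?_⟩
  · have := congrArg Prod.fst h2
    simp only [Prod.fst_add, add_zero] at this
    exact (neg_inj.1 this).symm
  · exact (congrArg Prod.snd h2).symm

end Hyp

end

end K225.LiftAlg
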