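import Groth.Agent.FlatMor.K225.LiftAlg

/-!
# Lifting complexes of finite free modules: without surjectivity
-/

set_option autoImplicit false
set_option linter.unusedSectionVars false

universe u

namespace K225.LiftAlg

variable {R R' : Type u} [CommRing R] [CommRing R'] (φ : R →+* R')
  {P : ℕ → Type u} [∀ k, AddCommGroup (P k)] [∀ k, Module R (P k)]
  (d : ∀ k, P (k + 1) →ₗ[R] P k) {r : ℕ → ℕ} (u : ∀ k, P k →ₛₗ[φ] (Fin (r k) → R'))

/-- The reduction map on a free module. -/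
def redS (n : ℕ) : (Fin n → R) →ₛₗ[φ] (Fin n → R') where
  toFun x k := φ (x k)
  map_add' x y := by funext k; exact map_add φ _ _
  map_smul' a x := by funext k; exact map_mul φ _ _

@[simp] lemma redS_apply (n : ℕ) (x : Fin n → R) (k : Fin n) : redS φ n x k = φ (x k) := rfl

lemma redS_surj (hφ : Function.Surjective φ) (n : ℕ) : Function.Surjective (redS φ n) := by
  intro y
  choose g hg using hφ
  exact ⟨fun k => g (y k), funext fun k => hg _⟩

lemma mem_of_redS_eq_zero (n : ℕ) (x : Fin n → R) (h : redS φ n x = 0) :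
    x ∈ RingHom.ker φ • (⊤ : Submodule R (Fin n → R)) := by
  have : x = ∑ j, x j • Pi.single j (1 : R) := by
    ext i; rw [Finset.sum_apply]; simp [Pi.single_apply]
  rw [this]
  refine Submodule.sum_mem _ fun j _ => Submodule.smul_mem_smul ?_ trivial
  exact congrFun h j

lemma eq_zero_of_mem {M : Type u} [AddCommGroup M] [Module R M] {M' : Type u} [AddCommGroup M'] [Module R' M']
    (f : M →ₛₗ[φ] M') {x : M} (h : x ∈ RingHom.ker φ • (⊤ : Submodule R M)) : f x = 0 := by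
  refine Submodule.smul_induction_on h ?_ ?_
  · intro a ha n _
    rw [LinearMap.map_smulₛₗ, (RingHom.mem_ker).1 ha, zero_smul]
  · intro a b ha hb
    rw [map_add, ha, hb, add_zero]

/-- The hypotheses of the lifting lemma, without surjectivity of `u`. -/
structure Hyp2 (D' : ∀ k, (Fin (r (k + 1)) → R') →ₗ[R'] (Fin (r k) → R')) : Prop where
  surj : Function.Surjective φ
  jac : RingHom.ker φ ≤ Ideal.jacobson ⊥
  hud : ∀ k x, u k (d k x) = D' k (u (k + 1) x)
  hdd : ∀ k x, d k (d (k + 1) x) = 0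
  hDD : ∀ k x, D' k (D' (k + 1) x) = 0
  zero : r 0 = 0
  zero' : ∀ x : P 0, x = 0
  Q1 : ∀ k (z : P (k + 1)) (c : Fin (r (k + 2)) → R'), u (k + 1) z = D' (k + 1) c →
    d k z ∈ RingHom.ker φ • (⊤ : Submodule R (P k)) →
    ∃ x, z - d (k + 1) x ∈ RingHom.ker φ • (⊤ : Submodule R (P (k + 1)))
  Q2 : ∀ k (c : Fin (r (k + 1)) → R'), D' k c = 0 → ∃ (z : P (k + 1)) (e : Fin (r (k + 2)) → R'),
    u (k + 1) z - c = D' (k + 1) e ∧ d k z ∈ RingHom.ker φ • (⊤ : Submodule R (P k))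

variable {φ d u} {D' : ∀ k, (Fin (r (k + 1)) → R') →ₗ[R'] (Fin (r k) → R')} (H : Hyp2 φ d u D')

namespace Hyp2

/-- The enlarged complex. -/
abbrev P1 (_ : Hyp2 φ d u D') (k : ℕ) : Type u := P k × (Fin (r k) → R) × (Fin (r (k + 1)) → R)

/-- Its differential. -/
noncomputable def d1 (k : ℕ) : H.P1 (k + 1) →ₗ[R] H.P1 k :=
  LinearMap.prod (d k ∘ₗ LinearMap.fst _ _ _)
    (LinearMap.prod 0 (LinearMap.fst _ _ _ ∘ₗ LinearMap.snd _ _ _))

lemma d1_apply (k : ℕ) (z : H.P1 (k + 1)) : H.d1 k z = (d k z.1, 0, z.2.1) := rfl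

/-- The enlarged map. -/
noncomputable def u1 (k : ℕ) : H.P1 k →ₛₗ[φ] (Fin (r k) → R') where
  toFun z := u k z.1 + redS φ _ z.2.1 + D' k (redS φ _ z.2.2)
  map_add' x y := by
    simp only [Prod.fst_add, Prod.snd_add, map_add]
    abel
  map_smul' a x := by
    simp only [Prod.smul_fst, Prod.smul_snd, LinearMap.map_smulₛₗ, map_smul, smul_add]

lemma u1_apply (k : ℕ) (z : H.P1 k) :
    H.u1 k z = u k z.1 + redS φ _ z.2.1 + D' k (redS φ _ z.2.2) := rfl

lemma mem_iff (k : ℕ) (z : H.P1 k) : z ∈ RingHom.ker φ • (⊤ : Submodule R (H.P1 k)) ↔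
    z.1 ∈ RingHom.ker φ • (⊤ : Submodule R (P k)) ∧ redS φ _ z.2.1 = 0 ∧ redS φ _ z.2.2 = 0 := by
  constructor
  · intro h
    refine ⟨?_, ?_, ?_⟩
    · have : z.1 ∈ Submodule.map (LinearMap.fst R (P k) ((Fin (r k) → R) × (Fin (r (k + 1)) → R)))
        (RingHom.ker φ • (⊤ : Submodule R (H.P1 k))) := ⟨z, h, rfl⟩
      rw [Submodule.map_smul''] at this
      exact Submodule.smul_mono le_rfl le_top this
    · have : z.2.1 ∈ Submodule.map ((LinearMap.fst R (Fin (r k) → R) (Fin (r (k + 1)) → R)) ∘ₗ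
          (LinearMap.snd R (P k) ((Fin (r k) → R) × (Fin (r (k + 1)) → R))))
        (RingHom.ker φ • (⊤ : Submodule R (H.P1 k))) := ⟨z, h, rfl⟩
      rw [Submodule.map_smul''] at this
      exact eq_zero_of_mem φ (redS φ _) (Submodule.smul_mono le_rfl le_top this)
    · have : z.2.2 ∈ Submodule.map ((LinearMap.snd R (Fin (r k) → R) (Fin (r (k + 1)) → R)) ∘ₗ
          (LinearMap.snd R (P k) ((Fin (r k) → R) × (Fin (r (k + 1)) → R))))
        (RingHom.ker φ • (⊤ : Submodule R (H.P1 k))) := ⟨z, h, rfl⟩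
      rw [Submodule.map_smul''] at this
      exact eq_zero_of_mem φ (redS φ _) (Submodule.smul_mono le_rfl le_top this)
  · rintro ⟨h1, h2, h3⟩
    have e : z = LinearMap.inl R _ _ z.1 + LinearMap.inr R (P k) _ (LinearMap.inl R _ _ z.2.1) +
        LinearMap.inr R (P k) _ (LinearMap.inr R _ _ z.2.2) := by
      ext <;> simp
    have aux : ∀ {M : Type u} [AddCommGroup M] [Module R M] (f : M →ₗ[R] H.P1 k) (x : M),
        x ∈ RingHom.ker φ • (⊤ : Submodule R M) → f x ∈ RingHom.ker φ • (⊤ : Submodule R (H.P1 k)) := by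
      intro M _ _ f x hx
      have : f x ∈ Submodule.map f (RingHom.ker φ • (⊤ : Submodule R M)) := ⟨x, hx, rfl⟩
      rw [Submodule.map_smul''] at this
      exact Submodule.smul_mono le_rfl le_top this
    rw [e]
    refine add_mem (add_mem ?_ ?_) ?_
    · exact aux _ _ h1
    · exact aux (LinearMap.inr R (P k) _ ∘ₗ LinearMap.inl R _ _) _ (mem_of_redS_eq_zero φ _ _ h2)
    · exact aux (LinearMap.inr R (P k) _ ∘ₗ LinearMap.inr R _ _) _ (mem_of_redS_eq_zero φ _ _ h3)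

include H in
/-- The key computation. -/
lemma key (k : ℕ) (p : P (k + 1)) (a' : Fin (r (k + 2)) → R) (hp : u (k + 1) p + D' (k + 1) (redS φ _ a') = 0)
    (hdp : d k p ∈ RingHom.ker φ • (⊤ : Submodule R (P k))) :
    ∃ (x : P (k + 2)) (a1' : Fin (r (k + 3)) → R), H.u1 (k + 2) (x, a', a1') = 0 ∧
      p - d (k + 1) x ∈ RingHom.ker φ • (⊤ : Submodule R (P (k + 1))) := by
  obtain ⟨x, hx⟩ := H.Q1 k p (-redS φ _ a') (by rw [map_neg]; exact eq_neg_of_add_eq_zero_left hp) hdp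
  have h1 : D' (k + 1) (u (k + 2) x + redS φ _ a') = 0 := by
    rw [map_add, ← H.hud]
    have h2 := eq_zero_of_mem φ (u (k + 1)) hx
    rw [map_sub, sub_eq_zero] at h2
    rw [← h2]
    exact hp
  obtain ⟨z, e, hz, hdz⟩ := H.Q2 (k + 1) _ h1
  obtain ⟨a1', ha1'⟩ := redS_surj φ H.surj _ e
  refine ⟨x - z, a1', ?_, ?_⟩
  · rw [u1_apply]
    simp only [map_sub]
    rw [ha1', ← hz]
    abel
  · rw [map_sub]
    have : p - (d (k + 1) x - d (k + 1) z) = (p - d (k + 1) x) + d (k + 1) z := by abel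
    rw [this]
    exact add_mem hx hdz

variable [∀ k, Module.Finite R (P k)] [∀ k, Module.Projective R (P k)]

lemma hyp : Hyp φ (P := H.P1) H.d1 H.u1 D' where
  surj := H.surj
  jac := H.jac
  hud k z := by
    rw [u1_apply, u1_apply, d1_apply]
    simp only [map_add, map_zero, add_zero, H.hud, H.hDD]
  hdd k z := by
    rw [d1_apply, d1_apply]
    simp only [H.hdd]
    rfl
  hu k y := by
    obtain ⟨x, hx⟩ := redS_surj φ H.surj _ y
    exact ⟨(0, x, 0), by rw [u1_apply]; simp [hx]⟩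
  hacy0 z _ := by
    have hz1 : z.1 = 0 := H.zero' _
    have : IsEmpty (Fin (r 0)) := by rw [H.zero]; infer_instance
    have h0 : ∀ (n : ℕ) (_ : IsEmpty (Fin n)) (x : Fin n → R'), x = 0 := fun n hn x => by
      funext i; exact hn.elim i
    obtain ⟨z', e, hz', hdz⟩ := H.Q2 0 (redS φ _ z.2.2) (h0 _ this _)
    obtain ⟨a1', ha1'⟩ := redS_surj φ H.surj _ e
    refine ⟨(-z', z.2.2, a1'), ?_, ?_⟩
    · rw [u1_apply]
      simp only [map_neg]
      rw [ha1', ← hz']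
      abel
    · rw [H.mem_iff, d1_apply]
      refine ⟨?_, h0 _ this _, ?_⟩
      · simp only [Prod.fst_sub, hz1, map_neg, sub_neg_eq_add, zero_add]
        exact hdz
      · simp
  hacy k z hz hdz := by
    rw [H.mem_iff, d1_apply] at hdz
    obtain ⟨h1, -, h2⟩ := hdz
    simp only at h1 h2
    rw [u1_apply, h2, add_zero] at hz
    obtain ⟨x, a1', hx, hx'⟩ := H.key k z.1 z.2.2 hz h1
    refine ⟨(x, z.2.2, a1'), hx, ?_⟩
    rw [H.mem_iff, d1_apply]
    refine ⟨hx', ?_, ?_⟩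
    · simpa using h2
    · simp

/-- The differential of the lift. -/
noncomputable def D (k : ℕ) : (Fin (r (k + 1)) → R) →ₗ[R] (Fin (r k) → R) := H.hyp.D k

/-- The map to `P`. -/
noncomputable def w (k : ℕ) : (Fin (r k) → R) →ₗ[R] P k := LinearMap.fst _ _ _ ∘ₗ H.hyp.w k

/-- The homotopy, before reduction. -/
noncomputable def h (k : ℕ) : (Fin (r k) → R) →ₗ[R] (Fin (r (k + 1)) → R) :=
  LinearMap.snd _ _ _ ∘ₗ LinearMap.snd _ _ _ ∘ₗ H.hyp.w k

lemma w_D (k : ℕ) (y : Fin (r (k + 1)) → R) : H.w k (H.D k y) = d k (H.w (k + 1) y) :=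
  congrArg Prod.fst (H.hyp.w_D k y)

lemma D_D (k : ℕ) (y : Fin (r (k + 2)) → R) : H.D k (H.D (k + 1) y) = 0 := H.hyp.D_D k y

lemma red (k : ℕ) (y : Fin (r (k + 1)) → R) : redS φ _ (H.D k y) = D' k (redS φ _ y) := H.hyp.red k y

lemma h_D (k : ℕ) (y : Fin (r (k + 1)) → R) : H.h k (H.D k y) = (H.hyp.w (k + 1) y).2.1 :=
  congrArg (fun z => z.2.2) (H.hyp.w_D k y)

/-- The homotopy relation. -/
lemma homotopy (k : ℕ) (y : Fin (r (k + 1)) → R) : redS φ _ y =
    u (k + 1) (H.w (k + 1) y) + redS φ _ (H.h k (H.D k y)) + D' (k + 1) (redS φ _ (H.h (k + 1) y)) := by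
  rw [h_D]
  exact (H.hyp.u_w (k + 1) y).symm

lemma inj (k : ℕ) (y : Fin (r (k + 1)) → R) (hy : H.D k y = 0) (x : P (k + 2))
    (hx : H.w (k + 1) y = d (k + 1) x) : ∃ z, y = H.D (k + 1) z := by
  have h1 : (H.hyp.w (k + 1) y).2.1 = 0 := by rw [← H.h_D, hy, map_zero]
  obtain ⟨z, -, hz, -⟩ := H.hyp.exact2 k y (x, (H.hyp.w (k + 1) y).2.2, 0) hy (by
    rw [d1_apply]
    refine Prod.ext hx (Prod.ext h1 rfl))
  exact ⟨z, hz⟩

lemma surj' (k : ℕ) (x : P (k + 1)) (hx : d k x = 0) :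
    ∃ (z : Fin (r (k + 1)) → R) (x' : P (k + 2)), H.D k z = 0 ∧ x = H.w (k + 1) z + d (k + 1) x' := by
  cases k with
  | zero =>
    obtain ⟨z, x', h1, h2⟩ := H.hyp.exact1 0 (x, 0, 0) (by
      rw [d1_apply, map_zero]
      exact Prod.ext hx.symm rfl)
    exact ⟨z, x'.1, h1.symm, congrArg Prod.fst h2⟩
  | succ k =>
    obtain ⟨z, x', h1, h2⟩ := H.hyp.exact2 k 0 (x, 0, 0) (map_zero _) (by
      rw [d1_apply, map_zero]
      exact Prod.ext hx.symm rfl)
    exact ⟨z, x'.1, h1.symm, congrArg Prod.fst h2⟩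

end Hyp2

end K225.LiftAlg
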