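import Groth.Agent.FlatMor.K225.MatCx

/-!
# The lifting lemma, with the homotopy as a homotopy
-/

set_option autoImplicit false
set_option linter.dupNamespace false

universe u

open CategoryTheory CategoryTheory.Limits

namespace K225.MatCx

variable {R S : CommRingCat.{u}} (φ : R ⟶ S) {r s : ℤ → ℕ} {b : ℤ} {P : MatCx R s} {F' : MatCx S r}

/-- Restriction of scalars for complexes. -/
noncomputable abbrev rsc : CochainComplex (ModuleCat.{u} S) ℤ ⥤ CochainComplex (ModuleCat.{u} R) ℤ :=
  (ModuleCat.restrictScalars φ.hom).mapHomologicalComplex (ComplexShape.up ℤ)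

variable {φ}

/-- The lifting lemma for complexes of finite free modules with bases. -/
theorem exists_lift {v : (P.map φ.hom).toCx ⟶ F'.toCx} (H : LHyp φ.hom b P F' v) :
    ∃ (D : MatCx R r) (w : D.toCx ⟶ P.toCx) (h : MatCx.Red φ.hom D F'), QuasiIso w ∧
      Nonempty (Homotopy (redCx φ h) (w ≫ redCx φ (MatCx.red_map φ.hom P) ≫ (rsc φ).map v)) := by
  obtain ⟨D, w, h, hw, hh, h0, h1⟩ := H.exists_lift
  refine ⟨D, w, h, hw, ⟨{ hom := fun i j => (ModuleCat.ofHom (hh j i) : ModuleCat.of R (Fin (r i) → R) ⟶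
      ModuleCat.of R (Fin (r j) → R)) ≫ redMor φ.hom (r j), zero := ?_, comm := ?_ }⟩⟩
  · intro i j hij
    have : hh j i = 0 := h0 j i hij
    rw [this]
    exact Limits.zero_comp
  · intro i
    have e1 := dNext_eq (C := D.toCx) (D := (rsc φ).obj F'.toCx) (f := fun i j => (ModuleCat.ofHom (hh j i) : ModuleCat.of R (Fin (r i) → R) ⟶
      ModuleCat.of R (Fin (r j) → R)) ≫ redMor φ.hom (r j)) (show (ComplexShape.up ℤ).Rel i (i + 1) from rfl)
    have e2 := prevD_eq (C := D.toCx) (D := (rsc φ).obj F'.toCx) (f := fun i j => (ModuleCat.ofHom (hh j i) : ModuleCat.of R (Fin (r i) → R) ⟶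
      ModuleCat.of R (Fin (r j) → R)) ≫ redMor φ.hom (r j)) (show (ComplexShape.up ℤ).Rel (i - 1) i by
        rw [ComplexShape.up_Rel]; ring)
    rw [e1, e2]
    refine ModuleCat.hom_ext (LinearMap.ext fun y => ?_)
    have e3 := h1 i y
    rw [add_assoc, add_comm] at e3
    exact e3

end K225.MatCx
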