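import Groth.Agent.FlatMor.K225.LimRL
import Groth.Agent.S0997
import Groth.Agent.S1105
import Groth.Agent.PerfC.RingPerf
import Groth.Agent.LoccohB.HomCls
import Groth.Agent.PerfB.TildeExact

/-!
# Homotopy limits on affine schemes
-/

set_option autoImplicit false

universe u

open CategoryTheory CategoryTheory.Limits AlgebraicGeometry Pretriangulated

attribute [local instance] HasDerivedCategory.standard

namespace K225.TildeRL

open HoLim MatCx

variable (R : CommRingCat.{u})

/-- The complex of sheaves associated to a complex of modules. -/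
noncomputable abbrev tcx (R : CommRingCat.{u}) :
    CochainComplex (ModuleCat.{u} R) ℤ ⥤ CochainComplex (Spec R).Modules ℤ :=
  (tilde.functor R).mapHomologicalComplex (ComplexShape.up ℤ)

/-- Comparison of the derived tilde functor with the one on complexes. -/
noncomputable def tQ : DerivedCategory.Q ⋙ DCoh.tildeD R ≅ tcx R ⋙ DerivedCategory.Q :=
  (tilde.functor R).mapDerivedCategoryFactors

lemma tQ_naturality {K L : CochainComplex (ModuleCat.{u} R) ℤ} (f : K ⟶ L) :
    (DCoh.tildeD R).map (DerivedCategory.Q.map f) ≫ (tQ R).hom.app L =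
      (tQ R).hom.app K ≫ DerivedCategory.Q.map ((tcx R).map f) := (tQ R).hom.naturality f

instance full_tildeD : (DCoh.tildeD R).Full := (Groth.Agent.S0997.result R).1
instance faithful_tildeD : (DCoh.tildeD R).Faithful := (Groth.Agent.S0997.result R).2.1

lemma isQCohD_iff (K : DCoh.D (Spec R)) :
    DCoh.IsQCohD K ↔ ∃ M, Nonempty ((DCoh.tildeD R).obj M ≅ K) := (Groth.Agent.S0997.result R).2.2 K

lemma isQCohD_tildeD (M : DerivedCategory (ModuleCat.{u} R)) : DCoh.IsQCohD ((DCoh.tildeD R).obj M) :=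
  (isQCohD_iff R _).2 ⟨M, ⟨Iso.refl _⟩⟩

lemma isQCohD_tcx (K : CochainComplex (ModuleCat.{u} R) ℤ) :
    DCoh.IsQCohD (DerivedCategory.Q.obj ((tcx R).obj K)) :=
  (isQCohD_iff R _).2 ⟨DerivedCategory.Q.obj K, ⟨(tQ R).app K⟩⟩

lemma partAdj_tildeD : PartAdj (⊤ : ObjectProperty (DerivedCategory (ModuleCat.{u} R)))
    (DCoh.IsQCohD (X := Spec R)) (DCoh.tildeD R) :=
  @PartAdj.of_ff (DerivedCategory (ModuleCat.{u} R)) _ _ _ _ _ _ ⊤ (DCoh.D (Spec (CommRingCat.of R)))
    _ _ _ _ _ _ (DCoh.IsQCohD (X := Spec (CommRingCat.of R))) (DCoh.tildeD R) (full_tildeD R)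
    (faithful_tildeD R) (fun Z _ => isQCohD_tildeD R Z) (fun Z hZ => by
      obtain ⟨M, hM⟩ := (isQCohD_iff R Z).1 hZ
      exact ⟨M, trivial, hM⟩)

/-- Homotopy limits in `D(R)` give homotopy limits in `D_QCoh(Spec R)`. -/
theorem rl_tilde {G : ℕ → CochainComplex (ModuleCat.{u} R) ℤ} {t : ∀ n, G (n + 1) ⟶ G n}
    {L : CochainComplex (ModuleCat.{u} R) ℤ} {a : ∀ n, L ⟶ G n}
    (h : RL (⊤ : ObjectProperty (DerivedCategory (ModuleCat.{u} R))) (fun n => DerivedCategory.Q.obj (G n))
      (fun n => DerivedCategory.Q.map (t n)) (DerivedCategory.Q.obj L)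
      (fun n => DerivedCategory.Q.map (a n))) :
    RL (DCoh.IsQCohD (X := Spec R)) (fun n => DerivedCategory.Q.obj ((tcx R).obj (G n)))
      (fun n => DerivedCategory.Q.map ((tcx R).map (t n))) (DerivedCategory.Q.obj ((tcx R).obj L))
      (fun n => DerivedCategory.Q.map ((tcx R).map (a n))) := by
  have h1 := h.map (fun _ => trivial) (DCoh.tildeD R) (partAdj_tildeD R)
  have h2 := h1.of_iso (M' := fun n => DerivedCategory.Q.obj ((tcx R).obj (G n)))
    (t' := fun n => DerivedCategory.Q.map ((tcx R).map (t n))) (fun n => (tQ R).app (G n))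
    (fun n => tQ_naturality R (t n))
  refine (h2.of_iso_left ((tQ R).symm.app L) (isQCohD_tcx R L)).congr_a (fun n => rfl) fun n => ?_
  simp only [Iso.app_hom, Iso.symm_hom, Functor.comp_obj]
  rw [tQ_naturality, Iso.inv_hom_id_app_assoc]

/-- Morphisms from the object associated to a K-projective complex come from morphisms of complexes. -/
theorem exists_chain_map {K L : CochainComplex (ModuleCat.{u} R) ℤ} [K.IsKProjective]
    (v : DerivedCategory.Q.obj ((tcx R).obj K) ⟶ DerivedCategory.Q.obj ((tcx R).obj L)) :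
    ∃ g : K ⟶ L, DerivedCategory.Q.map ((tcx R).map g) = v := by
  obtain ⟨k, hk⟩ := (DCoh.tildeD R).map_surjective ((tQ R).hom.app K ≫ v ≫ (tQ R).inv.app L)
  obtain ⟨g, rfl⟩ := Groth.Agent.LoccohB.HomCls.Q_map_surjective_of_kProj K L k
  refine ⟨g, ?_⟩
  have h1 := tQ_naturality R g
  rw [hk] at h1
  simp only [Category.assoc, Iso.inv_hom_id_app] at h1
  have h2 : (tQ R).hom.app K ≫ v = (tQ R).hom.app K ≫ DerivedCategory.Q.map ((tcx R).map g) := by
    rw [← h1]
    congr 1
    exact (Category.comp_id v).symm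
  exact ((cancel_epi _).1 h2).symm

/-- Morphisms from a K-projective complex which become equal on the associated sheaves are homotopic. -/
theorem quasiIso_of_isIso {K L : CochainComplex (ModuleCat.{u} R) ℤ} (g : K ⟶ L)
    (h : IsIso (DerivedCategory.Q.map ((tcx R).map g))) : QuasiIso g :=
  Groth.Agent.S1105.quasiIso_of_tildeCx R g h

lemma isIso_of_quasiIso {K L : CochainComplex (ModuleCat.{u} R) ℤ} (g : K ⟶ L)
    (h : QuasiIso g) : IsIso (DerivedCategory.Q.map ((tcx R).map g)) := by
  rw [DerivedCategory.isIso_Q_map_iff_quasiIso]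
  exact (HomologicalComplex.quasiIso_map_iff_of_preservesHomology g (tilde.functor R)).2 h

/-- Bounded above complexes with bases are K-projective. -/
theorem isKProjective {r : ℤ → ℕ} {b : ℤ} (hr : ∀ i, b ≤ i → r i = 0) (D : MatCx R r) :
    D.toCx.IsKProjective := by
  refine Groth.Agent.PerfC.RingPerf.isKProjective (A := R) (F := D.toCx) (b := b) ?_ ?_
  · intro i hi
    refine ModuleCat.isZero_of_iff_subsingleton.2 ?_
    exact ⟨fun x y => fin_zero (hr i hi.le) x y⟩
  · intro i
    exact (inferInstance : Module.Projective R (Fin (r i) → R))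

end K225.TildeRL
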