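import Groth.Agent.FlatMor.K225.MatCx
import Groth.Agent.FlatMor.K225.TildeRL
import Groth.Agent.PerfA.PCohQCoh
import Groth.Agent.S1004
import Groth.Agent.S2066

/-!
# Pseudo-coherent objects on affine schemes are represented by complexes with bases
-/

set_option autoImplicit false
set_option linter.dupNamespace false

universe u

open CategoryTheory CategoryTheory.Limits AlgebraicGeometry

attribute [local instance] HasDerivedCategory.standard

namespace K225.MatRep

open MatCx TildeRL

lemma exists_fin_equiv {A : Type u} [CommRing A] (M : Type u) [AddCommGroup M] [Module A M]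
    [Module.Finite A M] [Module.Free A M] : ∃ n : ℕ, Nonempty (M ≃ₗ[A] (Fin n → A)) := by
  classical
  let b := Module.Free.chooseBasis A M
  have : Finite (Module.Free.ChooseBasisIndex A M) := inferInstance
  have := Fintype.ofFinite (Module.Free.ChooseBasisIndex A M)
  exact ⟨Fintype.card (Module.Free.ChooseBasisIndex A M),
    ⟨(b.reindex (Fintype.equivFin _)).equivFun⟩⟩

/-- Bounded above complexes of finite free modules have bases. -/
theorem exists_matCx {A : Type u} [CommRing A] (E : CochainComplex (ModuleCat.{u} A) ℤ) (b : ℤ)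
    (hb : ∀ i, b ≤ i → IsZero (E.X i)) (hE : ∀ i, Module.Finite A (E.X i) ∧ Module.Free A (E.X i)) :
    ∃ (s : ℤ → ℕ) (P : MatCx A s), (∀ i, b ≤ i → s i = 0) ∧ Nonempty (P.toCx ≅ E) := by
  have h1 : ∀ i, ∃ n : ℕ, Nonempty (E.X i ≃ₗ[A] (Fin n → A)) ∧ (b ≤ i → n = 0) := by
    intro i
    by_cases hi : b ≤ i
    · have : Subsingleton (E.X i) := ModuleCat.isZero_iff_subsingleton.1 (hb i hi)
      exact ⟨0, ⟨(0 : E.X i ≃ₗ[A] (Fin 0 → A))⟩, fun _ => rfl⟩
    · have := (hE i).1
      have := (hE i).2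
      obtain ⟨n, hn⟩ := exists_fin_equiv (A := A) (E.X i)
      exact ⟨n, hn, fun h => (hi h).elim⟩
  choose s hs hs' using h1
  let e : ∀ i, E.X i ≃ₗ[A] (Fin (s i) → A) := fun i => (hs i).some
  let f : ∀ i j, (Fin (s i) → A) →ₗ[A] (Fin (s j) → A) := fun i j =>
    (e j).toLinearMap ∘ₗ (E.d i j).hom ∘ₗ (e i).symm.toLinearMap
  have hf : ∀ i j, Matrix.mulVecLin (LinearMap.toMatrix' (f i j)) = f i j := fun i j => by
    rw [← Matrix.toLin'_apply', Matrix.toLin'_toMatrix']
  let P : MatCx A s :=
    { d := fun i j => LinearMap.toMatrix' (f i j)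
      shape := fun i j hij => by
        have : f i j = 0 := by
          refine LinearMap.ext fun x => ?_
          change e j ((E.d i j).hom _) = 0
          rw [E.shape i j hij]
          simp
        rw [this, map_zero]
      sq := fun i j k => by
        rw [← LinearMap.toMatrix'_comp]
        have : f j k ∘ₗ f i j = 0 := by
          refine LinearMap.ext fun x => ?_
          change e k ((E.d j k).hom ((e j).symm (e j ((E.d i j).hom ((e i).symm x))))) = 0
          rw [LinearEquiv.symm_apply_apply]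
          have h2 : (E.d j k).hom ((E.d i j).hom ((e i).symm x)) = 0 :=
            congrArg (fun g => g.hom ((e i).symm x)) (E.d_comp_d i j k)
          rw [h2, map_zero]
        rw [this, map_zero] }
  refine ⟨s, P, hs', ⟨HomologicalComplex.Hom.isoOfComponents (fun i => (e i).toModuleIso.symm) ?_⟩⟩
  intro i j _
  refine ModuleCat.hom_ext (LinearMap.ext fun x => ?_)
  change (E.d i j).hom ((e i).symm x) = (e j).symm (Matrix.mulVecLin (LinearMap.toMatrix' (f i j)) x)
  rw [hf]
  change _ = (e j).symm (e j ((E.d i j).hom ((e i).symm x)))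
  rw [LinearEquiv.symm_apply_apply]

/-- Pseudo-coherent objects on `Spec R` are represented by complexes with bases. -/
theorem exists_rep (R : CommRingCat.{u}) (N : DCoh.D (Spec R)) (hN : ∀ m : ℤ, DCoh.IsPseudoCoherentD m N) (c : ℤ) :
    ∃ (b : ℤ) (s : ℤ → ℕ) (P : MatCx R s), c ≤ b ∧ (∀ i, b ≤ i → s i = 0) ∧
      Nonempty (DerivedCategory.Q.obj ((tcx R).obj P.toCx) ≅ N) := by
  obtain ⟨M, ⟨e⟩⟩ := (isQCohD_iff R N).1 (Groth.Agent.PerfA.PCohQCoh.isQCohD_of_isPseudoCoherentD hN)
  have h1 : ∀ m, DRing.IsPseudoCoherent R m M := by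
    intro m
    have h2 : DCoh.IsPseudoCoherentD m ((DCoh.tildeD R).obj M) :=
      Groth.Agent.PerfA.PerfLocal.isPseudoCoherentD_of_iso e.symm (hN m)
    exact (Groth.Agent.S1004.result R M m).1 h2
  obtain ⟨E, b, hb, hE, ⟨e'⟩⟩ := (Groth.Agent.S2066.result M).1.1 h1
  obtain ⟨s, P, hs, ⟨e''⟩⟩ := exists_matCx E (max c (b + 1)) (fun i hi => hb i (by
    have := le_max_right c (b + 1); omega)) hE
  refine ⟨max c (b + 1), s, P, le_max_left _ _, hs, ⟨?_⟩⟩
  exact DerivedCategory.Q.mapIso ((tcx R).mapIso e'') ≪≫ ((tQ R).app E).symm ≪≫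
    (DCoh.tildeD R).mapIso e' ≪≫ e

end K225.MatRep
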