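import Groth.Agent.FlatMor.K225.AffArr2
import Groth.Agent.FlatMor.K225.AffCart
import Groth.Agent.FlatMor.K225.MatRep
import Groth.Agent.FlatMor.K225.MatLift
import Groth.Agent.S0953
import Groth.Agent.Dcoh.Spread

/-!
# The lifting lemma for pseudo-coherent objects on affine schemes
-/

set_option autoImplicit false

universe u

open CategoryTheory CategoryTheory.Limits AlgebraicGeometry Opposite TopologicalSpace

attribute [local instance] HasDerivedCategory.standard

namespace K225.AffArr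

open Groth.Agent.PerfB.BCTot Groth.Agent.PerfB.BCTot.Tot Groth.Agent.PerfB.BCMod
  Groth.Agent.PerfB.BCCx Groth.Agent.PerfB.BCSch Groth.Agent.PerfB.BCPush

open MatCx MatRep

variable {R S : CommRingCat.{u}} (φ : R ⟶ S) {r : ℤ → ℕ} {b : ℤ}

/-- The complex of sheaves associated to a bounded above complex with bases is K-flat. -/
theorem isKFlat (hr : ∀ i, b ≤ i → r i = 0) (D : MatCx R r) : DCoh.IsKFlat ((tcx R).obj D.toCx) := by
  refine Groth.Agent.S0953.result _ b ?_ ?_
  · rw [CochainComplex.isStrictlyLE_iff]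
    intro i hi
    refine (tilde.functor R).map_isZero ?_
    rw [ModuleCat.isZero_iff_subsingleton]
    exact ⟨fun x y => fin_zero (hr i hi.le) x y⟩
  · intro i
    have : Module.Free R (D.toCx.X i) := (inferInstance : Module.Free R (Fin (r i) → R))
    have : Module.Finite R (D.toCx.X i) := (inferInstance : Module.Finite R (Fin (r i) → R))
    exact Groth.Agent.Dcoh.Spread.isFlat_of_isFinLocFree
      (Groth.Agent.PerfA.TildeRes.isFinLocFree_tilde_of_free (R := R) (D.toCx.X i))

variable {φ}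

/-- Reduction maps are cartesian in the derived category. -/
theorem isCart_Θ_red (hr : ∀ i, b ≤ i → r i = 0) {D : MatCx R r} {D' : MatCx S r}
    (h : MatCx.Red φ.hom D D') : IsCart (Θ φ (redCx φ h)) :=
  isCart_toD_of_kflat (isCart_ar_red h) (isKFlat hr D)

/-- The lifting lemma for pseudo-coherent objects. -/
theorem exists_lift_tot (hφ : Function.Surjective φ.hom) (hI : RingHom.ker φ.hom ≤ Ideal.jacobson ⊥)
    (hr : ∀ i, b ≤ i → r i = 0) (F' : MatCx S r) (N : DCoh.D (Spec R))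
    (hN : ∀ m : ℤ, DCoh.IsPseudoCoherentD m N)
    (m : (⟨Spec S, DerivedCategory.Q.obj ((tcx S).obj F'.toCx)⟩ : Tot dPull.{u}) ⟶ ⟨Spec R, N⟩)
    (hb : m.base = Spec.map φ) (hm : IsCart m) :
    ∃ (D : MatCx R r) (h : MatCx.Red φ.hom D F') (α : DerivedCategory.Q.obj ((tcx R).obj D.toCx) ≅ N),
      m ≫ ver α.hom = Θ φ (redCx φ h) := by
  obtain ⟨c, s, P, hc, hs, ⟨β⟩⟩ := exists_rep R N hN b
  have hr' : ∀ i, c ≤ i → r i = 0 := fun i hi => hr i (by omega)
  have h1 := isCart_Θ_red hs (MatCx.red_map φ.hom P)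
  have h2 : IsIso (ver (P := dPull.{u}) β.hom) := isIso_ver _
  have h3 : IsCart (m ≫ ver (P := dPull.{u}) β.hom) := hm.comp (Groth.Agent.PerfB.BCTot.Tot.isCart_of_isIso _)
  obtain ⟨i, hi⟩ := h1.exists_iso h3 (by
    rw [Θ_base, comp_base, hb]
    exact (Category.comp_id _).symm)
  have := TildeRL.isKProjective S hs (P.map φ.hom)
  obtain ⟨v, hv⟩ := TildeRL.exists_chain_map S (K := (P.map φ.hom).toCx) (L := F'.toCx) i.hom
  have hvq : QuasiIso v := TildeRL.quasiIso_of_isIso S v (by rw [hv]; infer_instance)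
  have H : LHyp φ.hom c P F' v := ⟨hφ, hI, hr', hs, hvq⟩
  obtain ⟨D, w, h, hw, ⟨hh⟩⟩ := exists_lift H
  have h4 : IsIso (DerivedCategory.Q.map ((tcx R).map w)) := TildeRL.isIso_of_quasiIso R w hw
  refine ⟨D, h, @asIso _ _ _ _ (DerivedCategory.Q.map ((tcx R).map w)) h4 ≪≫ β, ?_⟩
  have h5 : Θ φ (redCx φ h) = m ≫ ver (P := dPull.{u}) β.hom ≫
      ver (P := dPull.{u}) (DerivedCategory.Q.map ((tcx R).map w)) := by
    rw [Θ_congr φ hh, ← Θ_ver, ← ver_Θ]
    have h6 : DerivedCategory.Q.map ((tcx S).map v) = i.hom := hv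
    rw [h6]
    refine (congrArg (fun k => k ≫ _) hi).trans ?_
    rw [Category.assoc]
  rw [h5, ver_comp_ver]
  rfl

end K225.AffArr
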