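import Mathlib.CategoryTheory.Triangulated.Functor
import Mathlib.CategoryTheory.Triangulated.Pretriangulated
import Mathlib.CategoryTheory.ObjectProperty.Basic

/-!
# Homotopy limits of towers relative to a class of test objects
-/

set_option autoImplicit false
set_option linter.unusedSectionVars false

universe v u v' u'

open CategoryTheory CategoryTheory.Limits Pretriangulated

namespace K225.HoLim

section Prod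

variable {𝒯 : Type u} [Category.{v} 𝒯] (𝒬 : ObjectProperty 𝒯)

/-- `P` is a product of the `M n` with respect to test objects in `𝒬`. -/
structure IsProd (M : ℕ → 𝒯) (P : 𝒯) (pr : ∀ n, P ⟶ M n) : Prop where
  lift : ∀ Z, 𝒬 Z → ∀ f : (∀ n, Z ⟶ M n), ∃ g : Z ⟶ P, ∀ n, g ≫ pr n = f n
  uniq : ∀ Z, 𝒬 Z → ∀ g g' : Z ⟶ P, (∀ n, g ≫ pr n = g' ≫ pr n) → g = g'

variable {𝒬}

lemma IsProd.exists_iso {M M' : ℕ → 𝒯} {P P' : 𝒯} {pr : ∀ n, P ⟶ M n} {pr' : ∀ n, P' ⟶ M' n}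
    (h : IsProd 𝒬 M P pr) (h' : IsProd 𝒬 M' P' pr') (hP : 𝒬 P) (hP' : 𝒬 P') (φ : ∀ n, M n ≅ M' n) :
    ∃ θ : P ≅ P', ∀ n, θ.hom ≫ pr' n = pr n ≫ (φ n).hom := by
  obtain ⟨f, hf⟩ := h'.lift P hP (fun n => pr n ≫ (φ n).hom)
  obtain ⟨g, hg⟩ := h.lift P' hP' (fun n => pr' n ≫ (φ n).inv)
  refine ⟨⟨f, g, ?_, ?_⟩, hf⟩
  · refine h.uniq _ hP _ _ fun n => ?_
    rw [Category.assoc, hg, reassoc_of% (hf n)]
    simp
  · refine h'.uniq _ hP' _ _ fun n => ?_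
    rw [Category.assoc, hf, reassoc_of% (hg n)]
    simp

end Prod

variable {𝒯 : Type u} [Category.{v} 𝒯] [Preadditive 𝒯] [HasZeroObject 𝒯] [HasShift 𝒯 ℤ]
  [∀ n : ℤ, (shiftFunctor 𝒯 n).Additive] [Pretriangulated 𝒯] (𝒬 : ObjectProperty 𝒯)

/-- `L` is a homotopy limit of the tower `(M, t)`, with projections `a`, with respect to test objects in `𝒬`. -/
def RL (M : ℕ → 𝒯) (t : ∀ n, M (n + 1) ⟶ M n) (L : 𝒯) (a : ∀ n, L ⟶ M n) : Prop :=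
  ∃ (P : 𝒯) (pr : ∀ n, P ⟶ M n) (sh : P ⟶ P) (x : L ⟶ P) (w : P ⟶ L⟦(1 : ℤ)⟧),
    𝒬 P ∧ 𝒬 L ∧ IsProd 𝒬 M P pr ∧ (∀ n, sh ≫ pr n = pr n - pr (n + 1) ≫ t n) ∧
    (∀ n, x ≫ pr n = a n) ∧ Triangle.mk x sh w ∈ distTriang 𝒯

variable {𝒬}

lemma RL.prop {M : ℕ → 𝒯} {t : ∀ n, M (n + 1) ⟶ M n} {L : 𝒯} {a : ∀ n, L ⟶ M n} (h : RL 𝒬 M t L a) :
    𝒬 L := by
  obtain ⟨_, _, _, _, _, _, h, _⟩ := h
  exact h

lemma RL.comm {M : ℕ → 𝒯} {t : ∀ n, M (n + 1) ⟶ M n} {L : 𝒯} {a : ∀ n, L ⟶ M n} (h : RL 𝒬 M t L a)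
    (n : ℕ) : a (n + 1) ≫ t n = a n := by
  obtain ⟨P, pr, sh, x, w, hP, hL, hpr, hsh, hx, hT⟩ := h
  have h0 : x ≫ sh = 0 := comp_distTriang_mor_zero₁₂ _ hT
  have h1 : x ≫ sh ≫ pr n = 0 := by rw [← Category.assoc, h0, zero_comp]
  rw [hsh, Preadditive.comp_sub, sub_eq_zero, hx, ← Category.assoc, hx] at h1
  exact h1.symm

/-- Uniqueness. -/
theorem RL.exists_iso {M M' : ℕ → 𝒯} {t : ∀ n, M (n + 1) ⟶ M n} {t' : ∀ n, M' (n + 1) ⟶ M' n}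
    {L L' : 𝒯} {a : ∀ n, L ⟶ M n} {a' : ∀ n, L' ⟶ M' n} (h : RL 𝒬 M t L a) (h' : RL 𝒬 M' t' L' a')
    (φ : ∀ n, M n ≅ M' n) (hφ : ∀ n, t n ≫ (φ n).hom = (φ (n + 1)).hom ≫ t' n) :
    ∃ θ : L ≅ L', ∀ n, θ.hom ≫ a' n = a n ≫ (φ n).hom := by
  obtain ⟨P, pr, sh, x, w, hP, hL, hpr, hsh, hx, hT⟩ := h
  obtain ⟨P', pr', sh', x', w', hP', hL', hpr', hsh', hx', hT'⟩ := h'
  obtain ⟨β, hβ⟩ := hpr.exists_iso hpr' hP hP' φ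
  have hs : sh ≫ β.hom = β.hom ≫ sh' := by
    refine hpr'.uniq _ hP _ _ fun n => ?_
    rw [Category.assoc, hβ, Category.assoc, hsh', Preadditive.comp_sub, hβ, ← Category.assoc, hsh,
      Preadditive.sub_comp, Category.assoc, hφ, ← Category.assoc β.hom, hβ, Category.assoc]
  obtain ⟨γ, hγ, hγ'⟩ := complete_distinguished_triangle_morphism₁ _ _ hT hT' β.hom β.hom hs
  let F : Triangle.mk x sh w ⟶ Triangle.mk x' sh' w' :=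
    { hom₁ := γ, hom₂ := β.hom, hom₃ := β.hom, comm₁ := hγ, comm₂ := hs, comm₃ := hγ' }
  have hγi : IsIso γ := isIso₁_of_isIso₂₃ F hT hT' (show IsIso β.hom from inferInstance)
    (show IsIso β.hom from inferInstance)
  obtain ⟨δ, hδ⟩ : ∃ δ : L ⟶ L', δ = γ := ⟨γ, rfl⟩
  have hγ2 : δ ≫ x' = x ≫ β.hom := by rw [hδ]; exact hγ.symm
  have hδi : IsIso δ := by rw [hδ]; exact hγi
  refine ⟨asIso δ, fun n => ?_⟩
  rw [asIso_hom, ← hx', ← Category.assoc, hγ2, Category.assoc, hβ, ← Category.assoc, hx]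

/-- Change of the projections and of the limit by isomorphisms. -/
theorem RL.of_iso {M M' : ℕ → 𝒯} {t : ∀ n, M (n + 1) ⟶ M n} {t' : ∀ n, M' (n + 1) ⟶ M' n}
    {L : 𝒯} {a : ∀ n, L ⟶ M n} (h : RL 𝒬 M t L a)
    (φ : ∀ n, M n ≅ M' n) (hφ : ∀ n, t n ≫ (φ n).hom = (φ (n + 1)).hom ≫ t' n) :
    RL 𝒬 M' t' L (fun n => a n ≫ (φ n).hom) := by
  obtain ⟨P, pr, sh, x, w, hP, hL, hpr, hsh, hx, hT⟩ := h
  refine ⟨P, fun n => pr n ≫ (φ n).hom, sh, x, w, hP, hL, ⟨?_, ?_⟩, ?_, ?_, hT⟩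
  · intro Z hZ f
    obtain ⟨g, hg⟩ := hpr.lift Z hZ (fun n => f n ≫ (φ n).inv)
    exact ⟨g, fun n => by rw [reassoc_of% (hg n)]; simp⟩
  · intro Z hZ g g' hgg
    refine hpr.uniq Z hZ _ _ fun n => ?_
    have := hgg n
    rw [← Category.assoc, ← Category.assoc] at this
    exact (cancel_mono _).1 this
  · intro n
    rw [← Category.assoc, hsh, Preadditive.sub_comp, Category.assoc, hφ, Category.assoc]
  · intro n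
    rw [← Category.assoc, hx]

/-- Change of the limit by an isomorphism. -/
theorem RL.of_iso_left {M : ℕ → 𝒯} {t : ∀ n, M (n + 1) ⟶ M n} {L L' : 𝒯} {a : ∀ n, L ⟶ M n}
    (h : RL 𝒬 M t L a) (e : L' ≅ L) (hL' : 𝒬 L') : RL 𝒬 M t L' (fun n => e.hom ≫ a n) := by
  obtain ⟨P, pr, sh, x, w, hP, hL, hpr, hsh, hx, hT⟩ := h
  refine ⟨P, pr, sh, e.hom ≫ x, w ≫ e.inv⟦(1 : ℤ)⟧', hP, hL', hpr, hsh, ?_, ?_⟩
  · intro n
    rw [Category.assoc, hx]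
  · refine isomorphic_distinguished _ hT _ (Triangle.isoMk _ _ e (Iso.refl _) (Iso.refl _) ?_ ?_ ?_)
    · exact Category.comp_id (e.hom ≫ x)
    · exact (Category.comp_id sh).trans (Category.id_comp sh).symm
    · have h1 : (w ≫ e.inv⟦(1 : ℤ)⟧') ≫ e.hom⟦(1 : ℤ)⟧' = 𝟙 P ≫ w := by
        rw [Category.assoc, ← Functor.map_comp, e.inv_hom_id, CategoryTheory.Functor.map_id, Category.comp_id,
          Category.id_comp]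
      exact h1

lemma RL.congr_a {M : ℕ → 𝒯} {t t' : ∀ n, M (n + 1) ⟶ M n} {L : 𝒯} {a a' : ∀ n, L ⟶ M n}
    (h : RL 𝒬 M t L a) (ht : ∀ n, t n = t' n) (ha : ∀ n, a n = a' n) : RL 𝒬 M t' L a' := by
  obtain rfl : t = t' := funext ht
  obtain rfl : a = a' := funext ha
  exact h

section Map

variable {𝒯' : Type u'} [Category.{v'} 𝒯'] [Preadditive 𝒯'] [HasZeroObject 𝒯'] [HasShift 𝒯' ℤ]
  [∀ n : ℤ, (shiftFunctor 𝒯' n).Additive] [Pretriangulated 𝒯'] {𝒬' : ObjectProperty 𝒯'}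

/-- The images of test objects under a partial left adjoint of `G` exist. -/
def PartAdj (𝒬 : ObjectProperty 𝒯) (𝒬' : ObjectProperty 𝒯') (G : 𝒯 ⥤ 𝒯') : Prop :=
  (∀ Z, 𝒬 Z → 𝒬' (G.obj Z)) ∧ ∀ Z, 𝒬' Z → ∃ (Z' : 𝒯) (η : Z ⟶ G.obj Z'), 𝒬 Z' ∧
    ∀ N, 𝒬 N → Function.Bijective (fun f : Z' ⟶ N => η ≫ G.map f)

lemma PartAdj.of_adj {F : 𝒯' ⥤ 𝒯} {G : 𝒯 ⥤ 𝒯'} (adj : F ⊣ G) (hG : ∀ Z, 𝒬 Z → 𝒬' (G.obj Z))
    (hF : ∀ Z, 𝒬' Z → 𝒬 (F.obj Z)) : PartAdj 𝒬 𝒬' G := by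
  refine ⟨hG, fun Z hZ => ⟨F.obj Z, adj.unit.app Z, hF Z hZ, fun N _ => ?_⟩⟩
  have h : (fun f : F.obj Z ⟶ N => adj.unit.app Z ≫ G.map f) = adj.homEquiv Z N := by
    funext f
    rw [Adjunction.homEquiv_unit]
  rw [h]
  exact Equiv.bijective _

lemma PartAdj.of_ff {G : 𝒯 ⥤ 𝒯'} [G.Full] [G.Faithful] (hG : ∀ Z, 𝒬 Z → 𝒬' (G.obj Z))
    (hF : ∀ Z, 𝒬' Z → ∃ Z', 𝒬 Z' ∧ Nonempty (G.obj Z' ≅ Z)) : PartAdj 𝒬 𝒬' G := by
  refine ⟨hG, fun Z hZ => ?_⟩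
  obtain ⟨Z', hZ', ⟨e⟩⟩ := hF Z hZ
  refine ⟨Z', e.inv, hZ', fun N _ => ⟨fun f g hfg => ?_, fun f => ?_⟩⟩
  · exact G.map_injective ((cancel_epi _).1 hfg)
  · obtain ⟨k, hk⟩ := G.map_surjective (e.hom ≫ f)
    exact ⟨k, by simp [hk]⟩

/-- Functoriality. -/
theorem RL.map {M : ℕ → 𝒯} {t : ∀ n, M (n + 1) ⟶ M n} {L : 𝒯} {a : ∀ n, L ⟶ M n}
    (h : RL 𝒬 M t L a) (hM : ∀ n, 𝒬 (M n)) (G : 𝒯 ⥤ 𝒯') [G.CommShift ℤ] [G.IsTriangulated]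
    (hG : PartAdj 𝒬 𝒬' G) :
    RL 𝒬' (fun n => G.obj (M n)) (fun n => G.map (t n)) (G.obj L) (fun n => G.map (a n)) := by
  obtain ⟨P, pr, sh, x, w, hP, hL, hpr, hsh, hx, hT⟩ := h
  have hadd : G.Additive := inferInstance
  refine ⟨G.obj P, fun n => G.map (pr n), G.map sh, G.map x, G.map w ≫ (G.commShiftIso (1 : ℤ)).hom.app L,
    hG.1 P hP, hG.1 L hL, ⟨?_, ?_⟩, ?_, ?_, ?_⟩
  · intro Z hZ f
    obtain ⟨Z', η, hZ', hη⟩ := hG.2 Z hZ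
    choose k hk using fun n => (hη (M n) (hM n)).2 (f n)
    obtain ⟨g, hg⟩ := hpr.lift Z' hZ' k
    refine ⟨η ≫ G.map g, fun n => ?_⟩
    rw [Category.assoc, ← G.map_comp, hg]
    exact hk n
  · intro Z hZ g g' hgg
    obtain ⟨Z', η, hZ', hη⟩ := hG.2 Z hZ
    obtain ⟨k, rfl⟩ := (hη P hP).2 g
    obtain ⟨k', rfl⟩ := (hη P hP).2 g'
    dsimp only
    congr 2
    refine hpr.uniq Z' hZ' _ _ fun n => ?_
    apply (hη (M n) (hM n)).1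
    have := hgg n
    simp only [Category.assoc, ← G.map_comp] at this
    exact this
  · intro n
    rw [← G.map_comp, hsh, G.map_sub, G.map_comp]
  · intro n
    rw [← G.map_comp, hx]
  · exact G.map_distinguished _ hT

end Map

end K225.HoLim
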