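import Groth.Agent.FlatMor.K225.MatCx
import Groth.Agent.FlatMor.K225.RL
import Groth.Agent.CohtopB.ProdDerived285
import Groth.Prelude.Def_FlatCA
import Mathlib.Algebra.Category.ModuleCat.AB
import Mathlib.Algebra.Homology.DerivedCategory.ShortExact
import Mathlib.Algebra.Homology.HomologicalComplexLimits

/-!
# The limit of a tower of complexes of finite free modules
-/

set_option autoImplicit false
set_option linter.dupNamespace false

universe u

open CategoryTheory CategoryTheory.Limits

attribute [local instance] HasDerivedCategory.standard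

namespace K225.MatCx

open LiftAlg

section Lim

variable {A : Type u} [CommRing A] {A' : ℕ → Type u} [∀ n, CommRing (A' n)] {φ : ∀ n, A' (n + 1) →+* A' n}
  {π : ∀ n, A →+* A' n} (hlim : FlatCA.IsRingLimit A A' φ π) {r : ℤ → ℕ} (F : ∀ n, MatCx (A' n) r)
  (hF : ∀ n, MatCx.Red (φ n) (F (n + 1)) (F n))

include hlim hF in
/-- The limit of a tower of complexes with bases. -/
theorem exists_limit : ∃ G : MatCx A r, ∀ n, MatCx.Red (π n) G (F n) := by
  have h1 : ∀ i j (a : Fin (r j)) (b : Fin (r i)), ∃ x : A, ∀ n, π n x = (F n).d i j a b := by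
    intro i j a b
    refine hlim.2.2 (fun n => (F n).d i j a b) fun n => ?_
    exact congrFun (congrFun ((hF n).eq i j) a) b
  choose x hx using h1
  have h0 : ∀ {m n : ℕ} (M N : Matrix (Fin m) (Fin n) A), (∀ k, M.map (π k) = N.map (π k)) → M = N := by
    intro m n M N h
    ext a b
    refine hlim.2.1 _ _ fun k => ?_
    exact congrFun (congrFun (h k) a) b
  have h2 : ∀ i j n, (Matrix.of (x i j)).map (π n) = (F n).d i j := by
    intro i j n
    ext a b
    exact hx i j a b n
  refine ⟨⟨fun i j => Matrix.of (x i j), ?_, ?_⟩, ?_⟩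
  · intro i j hij
    refine h0 _ _ fun n => ?_
    rw [h2, (F n).shape i j hij]
    simp
  · intro i j k
    refine h0 _ _ fun n => ?_
    rw [Matrix.map_mul, h2, h2, (F n).sq]
    simp
  · intro n
    exact MatCx.ext fun i j => h2 i j n

end Lim

section Pi

variable {A : Type u} [CommRing A] (K : ℕ → CochainComplex (ModuleCat.{u} A) ℤ)

/-- The product of a sequence of complexes. -/
noncomputable def piCx : CochainComplex (ModuleCat.{u} A) ℤ where
  X i := ModuleCat.of A (∀ n, (K n).X i)
  d i j := ModuleCat.ofHom (LinearMap.pi fun n => ((K n).d i j).hom ∘ₗ LinearMap.proj n)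
  shape i j h := by
    refine ModuleCat.hom_ext (LinearMap.ext fun x => funext fun n => ?_)
    change ((K n).d i j).hom (x n) = 0
    rw [(K n).shape i j h]
    rfl
  d_comp_d' i j k _ _ := by
    refine ModuleCat.hom_ext (LinearMap.ext fun x => funext fun n => ?_)
    exact congrArg (fun f => f.hom (x n)) ((K n).d_comp_d i j k)

/-- The projections. -/
noncomputable def piProj (n : ℕ) : piCx K ⟶ K n where
  f i := ModuleCat.ofHom (X := ∀ n, (K n).X i) (Y := (K n).X i) (LinearMap.proj n)
  comm' _ _ _ := rfl

/-- The universal property. -/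
noncomputable def piLift {T : CochainComplex (ModuleCat.{u} A) ℤ} (f : ∀ n, T ⟶ K n) : T ⟶ piCx K where
  f i := ModuleCat.ofHom (X := T.X i) (Y := ∀ n, (K n).X i) (LinearMap.pi fun n => ((f n).f i).hom)
  comm' i j _ := by
    refine ModuleCat.hom_ext (LinearMap.ext fun x => funext fun n => ?_)
    exact congrArg (fun f => f.hom x) ((f n).comm i j)

lemma piLift_proj {T : CochainComplex (ModuleCat.{u} A) ℤ} (f : ∀ n, T ⟶ K n) (n : ℕ) :
    piLift K f ≫ piProj K n = f n := rfl

lemma pi_hom_ext {T : CochainComplex (ModuleCat.{u} A) ℤ} {f g : T ⟶ piCx K}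
    (h : ∀ n, f ≫ piProj K n = g ≫ piProj K n) : f = g := by
  refine HomologicalComplex.hom_ext _ _ fun i => ModuleCat.hom_ext (LinearMap.ext fun x => funext fun n => ?_)
  exact congrArg (fun k : T ⟶ K n => (k.f i).hom x) (h n)

/-- The product cone. -/
noncomputable def piLimit : IsLimit (Fan.mk (piCx K) (piProj K)) :=
  Fan.IsLimit.mk _ (fun s => piLift K s.proj) (fun _ _ => rfl)
    (fun _ _ hm => pi_hom_ext K fun n => hm n)

/-- The product cone in the derived category. -/
noncomputable def piLimitQ : IsLimit (Fan.mk (DerivedCategory.Q.obj (piCx K))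
    (fun n => DerivedCategory.Q.map (piProj K n))) := by
  have := Groth.Agent.CohtopB.ProdDerived285.preservesLimitsOfShape_Q (C := ModuleCat.{u} A) (J := ℕ)
  exact isLimitFanMkObjOfIsLimit DerivedCategory.Q _ _ (piLimit K)

end Pi

end K225.MatCx
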