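import Groth.Agent.Fixpt.H313.PullMon
import Groth.Agent.Dual.H379.ModVia

/-!
# Tensor products of arrows in the total category of a monoidal pseudofunctor
-/

set_option autoImplicit false

universe v₁ v₂ u₁ u₂

open CategoryTheory MonoidalCategory Functor.LaxMonoidal Functor.OplaxMonoidal

namespace K225.TensTot

open Groth.Agent.PerfB.BCTot Groth.Agent.PerfB.BCTot.Tot Groth.Agent.Fixpt.H313.PullMon
open Groth.Agent.Dual.H379

variable {𝒮 : Type u₁} [Category.{v₁} 𝒮] {D : 𝒮 → Type u₂} [∀ X, Category.{v₂} (D X)]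
  [∀ X, MonoidalCategory (D X)] [∀ X, BraidedCategory (D X)] {P : PullData D}
  [br : ∀ {X Y : 𝒮} (f : X ⟶ Y), (P.pull f).Braided]

/-- The tensor product of two arrows with the same base. -/
def tens {X Y : 𝒮} {K' L' : D X} {K L : D Y} (m : (⟨X, K'⟩ : Tot P) ⟶ ⟨Y, K⟩)
    (n : (⟨X, L'⟩ : Tot P) ⟶ ⟨Y, L⟩) (h : m.base = n.base) :
    (⟨X, K' ⊗ L'⟩ : Tot P) ⟶ ⟨Y, K ⊗ L⟩ :=
  ⟨m.base, δ (P.pull m.base) K L ≫ (m.fib ⊗ₘ (eqToHom (by rw [h]) ≫ n.fib))⟩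

@[simp] lemma tens_base {X Y : 𝒮} {K' L' : D X} {K L : D Y} (m : (⟨X, K'⟩ : Tot P) ⟶ ⟨Y, K⟩)
    (n : (⟨X, L'⟩ : Tot P) ⟶ ⟨Y, L⟩) (h : m.base = n.base) : (tens m n h).base = m.base := rfl

lemma tens_mk {X Y : 𝒮} {K' L' : D X} {K L : D Y} (f : X ⟶ Y) (x : (P.pull f).obj K ⟶ K')
    (y : (P.pull f).obj L ⟶ L') (h : f = f) :
    tens (P := P) (X := X) (Y := Y) (K' := K') (K := K) ⟨f, x⟩ (⟨f, y⟩ : (⟨X, L'⟩ : Tot P) ⟶ ⟨Y, L⟩) h =
      ⟨f, δ (P.pull f) K L ≫ (x ⊗ₘ y)⟩ := by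
  refine hom_ext rfl ?_
  simp [tens]

lemma tens_congr {X Y : 𝒮} {K' L' : D X} {K L : D Y} {m m' : (⟨X, K'⟩ : Tot P) ⟶ ⟨Y, K⟩}
    {n n' : (⟨X, L'⟩ : Tot P) ⟶ ⟨Y, L⟩} (h : m.base = n.base) (hm : m = m') (hn : n = n') :
    tens m n h = tens m' n' (by rw [← hm, ← hn, h]) := by
  subst hm hn
  rfl

lemma isCart_tens {X Y : 𝒮} {K' L' : D X} {K L : D Y} {m : (⟨X, K'⟩ : Tot P) ⟶ ⟨Y, K⟩}
    {n : (⟨X, L'⟩ : Tot P) ⟶ ⟨Y, L⟩} (h : m.base = n.base) (hm : IsCart m) (hn : IsCart n) :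
    IsCart (tens m n h) := by
  have h1 : IsIso m.fib := hm
  have h2 : IsIso n.fib := hn
  unfold IsCart tens
  dsimp only
  infer_instance

variable (hP : IsMonPull P)

include hP in
lemma tens_comp_aux {X Y Z : 𝒮} (b : X ⟶ Y) (b' : Y ⟶ Z) {K' L' : D X} {K L : D Y} {K'' L'' : D Z}
    (x : (P.pull b).obj K ⟶ K') (y : (P.pull b).obj L ⟶ L') (x' : (P.pull b').obj K'' ⟶ K)
    (y' : (P.pull b').obj L'' ⟶ L) :
    (P.compI b b').inv.app (K'' ⊗ L'') ≫ (P.pull b).map (δ (P.pull b') K'' L'' ≫ (x' ⊗ₘ y')) ≫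
      δ (P.pull b) K L ≫ (x ⊗ₘ y) =
    δ (P.pull (b ≫ b')) K'' L'' ≫ (((P.compI b b').inv.app K'' ≫ (P.pull b).map x' ≫ x) ⊗ₘ
      ((P.compI b b').inv.app L'' ≫ (P.pull b).map y' ≫ y)) := by
  have h1 := tri_inv_δ hP b b' (b ≫ b') rfl K'' L''
  rw [tri_rfl] at h1
  have h2 := δ_natural (P.pull b) x' y'
  rw [Functor.map_comp, Category.assoc, ← reassoc_of% h2, reassoc_of% h1, tensorHom_comp_tensorHom,
    tensorHom_comp_tensorHom]

include hP in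
/-- Composition. -/
lemma tens_comp {X Y Z : 𝒮} {K' L' : D X} {K L : D Y} {K'' L'' : D Z}
    (m : (⟨X, K'⟩ : Tot P) ⟶ ⟨Y, K⟩) (n : (⟨X, L'⟩ : Tot P) ⟶ ⟨Y, L⟩) (h : m.base = n.base)
    (m' : (⟨Y, K⟩ : Tot P) ⟶ ⟨Z, K''⟩) (n' : (⟨Y, L⟩ : Tot P) ⟶ ⟨Z, L''⟩) (h' : m'.base = n'.base) :
    tens m n h ≫ tens m' n' h' = tens (m ≫ m') (n ≫ n') (by rw [comp_base, comp_base, h, h']) := by
  obtain ⟨b, x⟩ := m
  obtain ⟨_, y⟩ := n
  obtain ⟨b', x'⟩ := m'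
  obtain ⟨_, y'⟩ := n'
  dsimp only at h h'
  subst h h'
  rw [tens_mk, tens_mk]
  refine hom_ext rfl ?_
  rw [comp_fib]
  dsimp only [tens]
  rw [comp_fib, comp_fib]
  simp only [eqToHom_refl, Category.id_comp, comp_base]
  exact tens_comp_aux hP b b' x y x' y'

include hP in
lemma tens_id_ver {X : 𝒮} (E : D X) {K L : D X} (u : K ⟶ L) :
    tens (𝟙 (⟨X, E⟩ : Tot P)) (ver u) rfl = ver (E ◁ u) := by
  refine hom_ext rfl ?_
  dsimp only [tens, ver, id_base]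
  simp only [eqToHom_refl, Category.id_comp, id_fib]
  have h1 := idI_δ hP X E K
  rw [h1, Category.assoc, ← id_tensorHom, tensorHom_comp_tensorHom]
  exact congrArg (fun z => δ (P.pull (𝟙 X)) E K ≫ (z ⊗ₘ ((P.idI X).hom.app K ≫ u)))
    (Category.comp_id ((P.idI X).hom.app E)).symm

/-- The tensor product of a cartesian and a cocartesian arrow is cocartesian, for dualizable objects. -/
lemma isCocart_tens {X Y : 𝒮} (f : X ⟶ Y) {R : D X ⥤ D Y} (adj : P.pull f ⊣ R) (E E' : D Y)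
    [ExactPairing E E'] (K : D X) :
    IsCocart (tens (cartLift (⟨Y, E⟩ : Tot P) f) (cocartLift f adj K) rfl) := by
  have h1 : tens (cartLift (⟨Y, E⟩ : Tot P) f) (cocartLift f adj K) rfl =
      cocartLift f adj ((P.pull f).obj E ⊗ K) ≫ ver (ModVia.proj (P.pull f) adj E K) := by
    refine Eq.trans ?_ (comp_ver' (P := P) (ModVia.proj (P.pull f) adj E K)
      (A := ⟨X, (P.pull f).obj E ⊗ K⟩) f (adj.counit.app ((P.pull f).obj E ⊗ K))).symm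
    refine (tens_mk f (𝟙 _) (adj.counit.app K) rfl).trans ?_
    refine hom_ext rfl ?_
    dsimp only
    have h2 := (adj.homEquiv (E ⊗ R.obj K) ((P.pull f).obj E ⊗ K)).symm_apply_apply
      (δ (P.pull f) E (R.obj K) ≫ (P.pull f).obj E ◁ adj.counit.app K)
    rw [Adjunction.homEquiv_counit] at h2
    rw [ModVia.proj, h2, eqToHom_refl, Category.id_comp, id_tensorHom]
  rw [h1]
  have h3 := ModVia.isIso_proj (P.pull f) adj E E' K
  have h4 : IsIso (ver (P := P) (ModVia.proj (P.pull f) adj E K)) := isIso_ver _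
  exact (isCocart_cocartLift f adj _).comp (isCocart_of_isIso _)

include hP in
/-- The same for an arbitrary cocartesian arrow. -/
lemma isCocart_tens' {X Y : 𝒮} (f : X ⟶ Y) {R : D X ⥤ D Y} (adj : P.pull f ⊣ R) (E E' : D Y)
    [ExactPairing E E'] {K : D X} {M : D Y} (n : (⟨X, K⟩ : Tot P) ⟶ ⟨Y, M⟩) (hn : IsCocart n)
    (h : (cartLift (⟨Y, E⟩ : Tot P) f).base = n.base) :
    IsCocart (tens (cartLift (⟨Y, E⟩ : Tot P) f) n h) := by
  obtain ⟨i, hi⟩ := (isCocart_cocartLift f adj K).exists_iso hn h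
  have h1 : tens (cartLift (⟨Y, E⟩ : Tot P) f) n h =
      tens (cartLift (⟨Y, E⟩ : Tot P) f) (cocartLift f adj K) rfl ≫ ver (E ◁ i.hom) := by
    rw [← tens_id_ver hP, tens_comp hP]
    exact tens_congr _ (Category.comp_id _).symm hi.symm
  rw [h1]
  have h4 : IsIso (ver (P := P) (E ◁ i.hom)) := isIso_ver _
  exact (isCocart_tens f adj E E' K).comp (isCocart_of_isIso _)

end K225.TensTot
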