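import Groth.Agent.FlatMor.K225.AffTower
import Groth.Agent.Dual.H306.BCLeft
import Groth.Agent.PerfB.BCShift
import Groth.Agent.S1106
import Groth.Agent.S0998
import Groth.Agent.S1054

/-!
# Towers of pseudo-coherent objects: direct image to the affine base
-/

set_option autoImplicit false

universe v₁ v₂ u₁ u₂ u

open CategoryTheory CategoryTheory.Limits AlgebraicGeometry

attribute [local instance] HasDerivedCategory.standard

namespace K225.TheoremB

open Groth.Agent.PerfB.BCTot Groth.Agent.PerfB.BCTot.Tot Groth.Agent.PerfB.BCSch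

section Formal

variable {𝒮 : Type u₁} [Category.{v₁} 𝒮] {D : 𝒮 → Type u₂} [∀ X, Category.{v₂} (D X)] {P : PullData D}

lemma cocartLift_nat {X Y : 𝒮} (f : X ⟶ Y) {R : D X ⥤ D Y} (adj : P.pull f ⊣ R) {K L : D X} (φ : K ⟶ L) :
    ver φ ≫ cocartLift f adj K = cocartLift f adj L ≫ ver (R.map φ) := by
  refine (ver_comp' (P := P) φ (B := ⟨Y, R.obj K⟩) f (adj.counit.app K)).trans ?_
  refine Eq.trans ?_ (comp_ver' (P := P) (R.map φ) (A := ⟨X, L⟩) f (adj.counit.app L)).symm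
  refine hom_ext rfl ?_
  dsimp only
  rw [eqToHom_refl, Category.id_comp]
  exact (adj.counit.naturality φ).symm

/-- Base change for cartesian arrows. -/
lemma bc_of_cartLift {A A' : Tot P} (θ : A' ⟶ A) (hθ : IsCart θ) {S S' : 𝒮} {f : A.base ⟶ S}
    {f' : A'.base ⟶ S'} {g : S' ⟶ S} (h : BC (cartLift A θ.base) f f' g) : BC θ f f' g := by
  obtain ⟨Xb, K'⟩ := A'
  obtain ⟨Yb, K⟩ := A
  obtain ⟨i, hi⟩ := (isCart_cartLift (⟨Yb, K⟩ : Tot P) θ.base).exists_iso hθ rfl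
  refine BC.congr_fib (Iso.refl K) i ?_ h
  rw [hi, Iso.refl_hom, ver_id]
  exact (Category.comp_id _).symm

end Formal

/-- Derived base change for cartesian arrows. -/
lemma bc_of_isCart {A A' : Tot dPull.{u}} (θ : A' ⟶ A) (hθ : IsCart θ) {S S' : Scheme.{u}} {f : A.base ⟶ S}
    {f' : A'.base ⟶ S'} {g : S' ⟶ S} [QuasiCompact f] [QuasiSeparated f] (hflat : Flat f ∨ Flat g)
    (sq : IsPullback θ.base f' f g) (hK : DCoh.IsQCohD A.fib) : BC θ f f' g :=
  bc_of_cartLift θ hθ (Groth.Agent.Dual.H306.BCLeft.bc_tor hflat sq A.fib hK)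

attribute [local instance] Groth.Agent.PerfB.BCSch.hasLpull Groth.Agent.Dcoh.DerSch.hasRpush

/-- Direct image arrow. -/
noncomputable abbrev push {X Y : Scheme.{u}} (f : X ⟶ Y) (K : DCoh.D X) :
    (⟨X, K⟩ : Tot dPull.{u}) ⟶ ⟨Y, (DCoh.Rpush f).obj K⟩ :=
  cocartLift (P := dPull.{u}) f (Groth.Agent.PerfB.BCShift.lAdj f) K

lemma push_nat {X Y : Scheme.{u}} (f : X ⟶ Y) {K L : DCoh.D X} (φ : K ⟶ L) :
    ver (P := dPull.{u}) φ ≫ push f K = push f L ≫ ver ((DCoh.Rpush f).map φ) :=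
  cocartLift_nat (P := dPull.{u}) f (Groth.Agent.PerfB.BCShift.lAdj f) φ

lemma isCocart_push {X Y : Scheme.{u}} (f : X ⟶ Y) (K : DCoh.D X) : IsCocart (push f K) :=
  isCocart_cocartLift (P := dPull.{u}) f (Groth.Agent.PerfB.BCShift.lAdj f) K

lemma partAdj_rpush {X Y : Scheme.{u}} (f : X ⟶ Y) [QuasiCompact f] [QuasiSeparated f] :
    HoLim.PartAdj (DCoh.IsQCohD (X := X)) (DCoh.IsQCohD (X := Y)) (DCoh.Rpush f) :=
  HoLim.PartAdj.of_adj (Groth.Agent.PerfB.BCShift.lAdj f)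
    (fun K hK => Groth.Agent.S0998.result f K hK) (fun K hK => Groth.Agent.S1054.result f K hK)

section Main

variable {A : Type u} [CommRing A] {A' : ℕ → Type u} [∀ n, CommRing (A' n)] {φ : ∀ n, A' (n + 1) →+* A' n}
  {π : ∀ n, A →+* A' n} {X : Scheme.{u}} {f : X ⟶ Spec (CommRingCat.of A)}
  {Xn : ℕ → Scheme.{u}} {j : ∀ n, Xn n ⟶ X} {g : ∀ n, Xn n ⟶ Spec (CommRingCat.of (A' n))}
  {ι : ∀ n, Xn n ⟶ Xn (n + 1)}

/-- A tower of pseudo-coherent objects on the `X_n`, with its direct images to `X` and their homotopy limit. -/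
structure Tower (j : ∀ n, Xn n ⟶ X) (ι : ∀ n, Xn n ⟶ Xn (n + 1)) where
  K : ∀ n, DCoh.D (Xn n)
  pc : ∀ n (m : ℤ), DCoh.IsPseudoCoherentD m (K n)
  m : ∀ n, (⟨Xn n, K n⟩ : Tot dPull.{u}) ⟶ ⟨Xn (n + 1), K (n + 1)⟩
  m_base : ∀ n, (m n).base = ι n
  m_cart : ∀ n, IsCart (m n)
  M : ℕ → DCoh.D X
  qc : ∀ n, DCoh.IsQCohD (M n)
  c : ∀ n, (⟨Xn n, K n⟩ : Tot dPull.{u}) ⟶ ⟨X, M n⟩
  c_base : ∀ n, (c n).base = j n
  c_cocart : ∀ n, IsCocart (c n)
  t : ∀ n, M (n + 1) ⟶ M n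
  comm : ∀ n, m n ≫ c (n + 1) = c n ≫ ver (t n)
  L : DCoh.D X
  a : ∀ n, L ⟶ M n
  rl : HoLim.RL (DCoh.IsQCohD (X := X)) M t L a

variable (T : Tower j ι)

/-- **Theorem B.** -/
theorem main (hlim : FlatCA.IsRingLimit A A' φ π) (hsurj : ∀ n, Function.Surjective (φ n))
    (hnil : ∀ n, ∀ x ∈ RingHom.ker (φ n), IsNilpotent x)
    [IsProper f] [Flat f] [LocallyOfFinitePresentation f]
    (hpb : ∀ n, IsPullback (j n) (g n) f (Spec.map (CommRingCat.ofHom (π n))))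
    (hιj : ∀ n, ι n ≫ j (n + 1) = j n)
    (hιg : ∀ n, ι n ≫ g (n + 1) = g n ≫ Spec.map (CommRingCat.ofHom (φ n))) :
    (∀ k : ℤ, DCoh.IsPseudoCoherentD k ((DCoh.Rpush f).obj T.L)) ∧
    ∀ n (L' : DCoh.D (Xn n)) (q : (⟨Xn n, L'⟩ : Tot dPull.{u}) ⟶ ⟨X, T.L⟩) (_ : q.base = j n) (_ : IsCart q)
      (v : L' ⟶ T.K n) (_ : T.c n ≫ ver (T.a n) = ver v ≫ q), IsIso ((DCoh.Rpush (g n)).map v) := by
  -- the structure morphisms of the `X_n`
  have hgp : ∀ n, IsProper (g n) := fun n => MorphismProperty.of_isPullback (hpb n) inferInstance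
  have hgf : ∀ n, Flat (g n) := fun n => MorphismProperty.of_isPullback (hpb n) inferInstance
  have hgl : ∀ n, LocallyOfFinitePresentation (g n) := fun n =>
    MorphismProperty.of_isPullback (hpb n) inferInstance
  have hcomp : ∀ n, CommRingCat.ofHom (π (n + 1)) ≫ CommRingCat.ofHom (φ n) = CommRingCat.ofHom (π n) := by
    intro n
    rw [← CommRingCat.ofHom_comp, hlim.1]
  have hsp : ∀ n, Spec.map (CommRingCat.ofHom (φ n)) ≫ Spec.map (CommRingCat.ofHom (π (n + 1))) =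
      Spec.map (CommRingCat.ofHom (π n)) := by
    intro n
    rw [← Spec.map_comp, hcomp]
  have hsq : ∀ n, IsPullback (ι n) (g n) (g (n + 1)) (Spec.map (CommRingCat.ofHom (φ n))) := by
    intro n
    refine IsPullback.of_right ?_ (hιg n) (hpb (n + 1))
    rw [hιj, hsp]
    exact hpb n
  -- the objects
  let γ := fun n => push (g n) (T.K n)
  let δ := fun n => push f (T.M n)
  have hγ : ∀ n, IsCocart (γ n) := fun n => isCocart_push _ _
  have hδ : ∀ n, IsCocart (δ n) := fun n => isCocart_push _ _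
  have hσ : ∀ n, ∃ s : (⟨Spec (CommRingCat.of (A' n)), (DCoh.Rpush (g n)).obj (T.K n)⟩ : Tot dPull.{u}) ⟶
      ⟨Spec (CommRingCat.of (A' (n + 1))), (DCoh.Rpush (g (n + 1))).obj (T.K (n + 1))⟩,
      s.base = Spec.map (CommRingCat.ofHom (φ n)) ∧ γ n ≫ s = T.m n ≫ γ (n + 1) := by
    intro n
    refine (hγ n).desc (T.m n ≫ γ (n + 1)) _ ?_
    rw [comp_base, T.m_base]
    exact (hιg n).symm
  choose σm hσb hσ using hσ
  have hcS : ∀ n, ∃ s : (⟨Spec (CommRingCat.of (A' n)), (DCoh.Rpush (g n)).obj (T.K n)⟩ : Tot dPull.{u}) ⟶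
      ⟨Spec (CommRingCat.of A), (DCoh.Rpush f).obj (T.M n)⟩,
      s.base = Spec.map (CommRingCat.ofHom (π n)) ∧ γ n ≫ s = T.c n ≫ δ n := by
    intro n
    refine (hγ n).desc (T.c n ≫ δ n) _ ?_
    rw [comp_base, T.c_base]
    exact (hpb n).w.symm
  choose cS hcSb hcS using hcS
  have hσc : ∀ n, IsCart (σm n) := by
    intro n
    have h1 : BC (T.m n) (g (n + 1)) (g n) (Spec.map (CommRingCat.ofHom (φ n))) :=
      bc_of_isCart (T.m n) (T.m_cart n) (Or.inl inferInstance) (by rw [T.m_base]; exact hsq n)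
        (Groth.Agent.PerfA.PCohQCoh.isQCohD_of_isPseudoCoherentD (T.pc (n + 1)))
    exact h1 _ _ (γ (n + 1)) (γ n) (σm n) rfl rfl (hσb n) (hγ _) (hγ _) (hσ n)
  have hcSc : ∀ n, IsCocart (cS n) := by
    intro n
    refine (isCocart_comp_iff (hγ n)).1 ?_
    rw [hcS]
    exact (T.c_cocart n).comp (hδ n)
  have hrel : ∀ n, σm n ≫ cS (n + 1) = cS n ≫ ver ((DCoh.Rpush f).map (T.t n)) := by
    intro n
    refine (hγ n).uniq ?_ ?_
    · rw [comp_base, comp_base, hσb, hcSb, hcSb, hsp]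
      exact (Category.comp_id _).symm
    · rw [← Category.assoc, hσ, Category.assoc, hcS, ← Category.assoc, T.comm, Category.assoc, push_nat,
        ← Category.assoc, ← hcS, Category.assoc]
  let _ := Groth.Agent.Dcoh.DerSch.rpushCommShift f
  have := Groth.Agent.Dcoh.DerSch.rpush_isTriangulated f
  have hRL := T.rl.map T.qc (DCoh.Rpush f) (partAdj_rpush f)
  obtain ⟨h1, h2⟩ := AffArr.affine_tower hlim hsurj hnil (fun n => (DCoh.Rpush (g n)).obj (T.K n))
    (fun n m => Groth.Agent.S1106.result (g n) (T.K n) (T.pc n) m) σm hσb hσc _ cS hcSb hcSc _ hrel _ _ hRL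
  refine ⟨h1, ?_⟩
  intro n L' q hq hqc v hv
  obtain ⟨qS, hqSb, hqS⟩ := (isCocart_push (g n) L').desc (q ≫ push f T.L) (Spec.map (CommRingCat.ofHom (π n)))
    (by rw [comp_base, hq]; exact (hpb n).w.symm)
  have h3 : IsCart qS := by
    have h4 : BC q f (g n) (Spec.map (CommRingCat.ofHom (π n))) :=
      bc_of_isCart q hqc (Or.inl inferInstance) (by rw [hq]; exact hpb n) T.rl.prop
    exact h4 _ _ (push f T.L) (push (g n) L') qS rfl rfl hqSb (isCocart_push _ _) (isCocart_push _ _) hqS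
  have h5 : cS n ≫ ver (P := dPull.{u}) ((DCoh.Rpush f).map (T.a n)) =
      ver (P := dPull.{u}) ((DCoh.Rpush (g n)).map v) ≫ qS := by
    refine (hγ n).uniq ?_ ?_
    · rw [comp_base, comp_base, hcSb, hqSb]
      exact (Category.comp_id _).trans (Category.id_comp _).symm
    · rw [← Category.assoc, hcS, Category.assoc, ← push_nat, ← Category.assoc, hv, Category.assoc, ← hqS,
        ← Category.assoc, push_nat, Category.assoc]
  have h6 : IsCart (ver (P := dPull.{u}) ((DCoh.Rpush (g n)).map v) ≫ qS) := by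
    rw [← h5]
    exact h2 n
  exact (isCart_ver_iff _).1 ((isCart_comp_iff h3).1 h6)

end Main

end K225.TheoremB
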