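import Groth.Agent.FlatMor.K225.TheoremB
import Groth.Agent.FlatMor.K225.TensTot
import Groth.Agent.Fixpt.H313.DX
import Groth.Agent.Dual.H379.DQMon
import Groth.Agent.PerfC.DTens
import Groth.Agent.S0921

/-!
# Twisting towers by perfect objects
-/

set_option autoImplicit false

universe u

open CategoryTheory CategoryTheory.Limits AlgebraicGeometry MonoidalCategory

attribute [local instance] HasDerivedCategory.standard

open scoped Groth.Agent.Dcoh.MonCat Groth.Agent.Dcoh.ModD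

namespace K225.Twist

open Groth.Agent Groth.Agent.Dcoh Groth.Agent.PerfB.BCTot Groth.Agent.PerfB.BCTot.Tot
  Groth.Agent.PerfB.BCSch TensTot HoLim Groth.Agent.PerfC.IsoLocus

attribute [local instance] Groth.Agent.PerfB.BCSch.hasLpull Groth.Agent.Dcoh.DerSch.hasRpush
attribute [local instance] Fixpt.H313.DX.brDX Fixpt.H313.DX.brPull

variable {X : Scheme.{u}}

lemma isTriang_tensorLeft (K : DCoh.D X) : IsTriang (tensorLeft K) := by
  obtain ⟨e⟩ := PerfDual.nonempty_objIso K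
  exact (PerfC.DTens.isTriang_LTX_obj K).of_iso e

lemma partAdj_tensorLeft (E E' : DCoh.D X) [ExactPairing E E'] (hE : DCoh.IsQCohD E) (hE' : DCoh.IsQCohD E') :
    PartAdj (DCoh.IsQCohD (X := X)) (DCoh.IsQCohD (X := X)) (tensorLeft E) :=
  PartAdj.of_adj (tensorLeftAdjunction E E') (fun _ hK => Dual.H379.DQMon.isQCohD_tensor hE hK)
    (fun _ hK => Dual.H379.DQMon.isQCohD_tensor hE' hK)

variable {Xn : ℕ → Scheme.{u}} {j : ∀ n, Xn n ⟶ X} {ι : ∀ n, Xn n ⟶ Xn (n + 1)}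

/-- The pullbacks of `E` to the `X_n`. -/
noncomputable abbrev e' (j : ∀ n, Xn n ⟶ X) (E : DCoh.D X) (n : ℕ) :
    (⟨Xn n, (dPull.{u}.pull (j n)).obj E⟩ : Tot dPull.{u}) ⟶ ⟨X, E⟩ :=
  cartLift (⟨X, E⟩ : Tot dPull.{u}) (j n)

lemma exists_e (hιj : ∀ n, ι n ≫ j (n + 1) = j n) (E : DCoh.D X) (n : ℕ) :
    ∃ e : (⟨Xn n, (dPull.{u}.pull (j n)).obj E⟩ : Tot dPull.{u}) ⟶
      ⟨Xn (n + 1), (dPull.{u}.pull (j (n + 1))).obj E⟩, e.base = ι n ∧ IsCart e ∧ e ≫ e' j E (n + 1) = e' j E n := by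
  obtain ⟨e, he, he'⟩ := (isCart_cartLift (⟨X, E⟩ : Tot dPull.{u}) (j (n + 1))).lift (e' j E n) (ι n) (hιj n)
  refine ⟨e, he, ?_, he'⟩
  refine (isCart_comp_iff (isCart_cartLift (⟨X, E⟩ : Tot dPull.{u}) (j (n + 1)))).1 ?_
  exact he'.symm ▸ isCart_cartLift (⟨X, E⟩ : Tot dPull.{u}) (j n)

open TheoremB in
/-- The twist of a tower by a perfect object. -/
theorem exists_twist (T : Tower j ι) (hιj : ∀ n, ι n ≫ j (n + 1) = j n)
    (hpc : ∀ n (M K : DCoh.D (Xn n)), (∀ m : ℤ, DCoh.IsPseudoCoherentD m M) →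
      (∀ m : ℤ, DCoh.IsPseudoCoherentD m K) → ∀ m : ℤ, DCoh.IsPseudoCoherentD m (M ⊗ K))
    (E : DCoh.D X) (hE : DCoh.IsPerfect E) :
    ∃ T' : Tower j ι, T'.L = (E ⊗ T.L) ∧
      ∀ n (L' : DCoh.D (Xn n)) (q : (⟨Xn n, L'⟩ : Tot dPull.{u}) ⟶ ⟨X, T.L⟩) (_ : q.base = j n) (_ : IsCart q)
      (v : L' ⟶ T.K n) (_ : T.c n ≫ ver (T.a n) = ver v ≫ q),
      ∃ (q' : (⟨Xn n, (dPull.{u}.pull (j n)).obj E ⊗ L'⟩ : Tot dPull.{u}) ⟶ ⟨X, T'.L⟩)
        (_ : q'.base = j n) (_ : IsCart q')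
        (hK : T'.K n = ((dPull.{u}.pull (j n)).obj E ⊗ T.K n)),
        T'.c n ≫ ver (T'.a n) = ver (((dPull.{u}.pull (j n)).obj E ◁ v) ≫ eqToHom hK.symm) ≫ q' := by
  have hP := Fixpt.H313.DX.isMonPull.{u}
  obtain ⟨E', hE', ⟨hex⟩⟩ := PerfDual.exists_exactPairing E hE
  choose e he hec hee using exists_e (j := j) (ι := ι) hιj E
  obtain ⟨cs, ht⟩ := isTriang_tensorLeft E
  have hEq : DCoh.IsQCohD E := Groth.Agent.PerfA.PCohQCoh.isQCohD_of_isPerfect hE
  have hEq' : DCoh.IsQCohD E' := Groth.Agent.PerfA.PCohQCoh.isQCohD_of_isPerfect hE'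
  let T' : Tower j ι :=
    { K := fun n => (dPull.{u}.pull (j n)).obj E ⊗ T.K n
      pc := fun n => hpc n _ _ (fun m => Groth.Agent.PerfA.PCohQCoh.isPseudoCoherentD_of_isPerfect
        (Groth.Agent.S0921.result (j n) E hE) m) (T.pc n)
      m := fun n => tens (e n) (T.m n) (by rw [he, T.m_base])
      m_base := fun n => he n
      m_cart := fun n => isCart_tens _ (hec n) (T.m_cart n)
      M := fun n => E ⊗ T.M n
      qc := fun n => Dual.H379.DQMon.isQCohD_tensor hEq (T.qc n)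
      c := fun n => tens (e' j E n) (T.c n) (T.c_base n).symm
      c_base := fun n => rfl
      c_cocart := fun n => isCocart_tens' hP (j n) (Groth.Agent.PerfB.BCShift.lAdj (j n)) E E' (T.c n)
        (T.c_cocart n) _
      t := fun n => E ◁ T.t n
      comm := fun n => by
        rw [tens_comp hP, ← tens_id_ver hP, tens_comp hP]
        exact tens_congr _ ((hee n).trans (Category.comp_id _).symm) (T.comm n)
      L := E ⊗ T.L
      a := fun n => E ◁ T.a n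
      rl := T.rl.map T.qc (tensorLeft E) (partAdj_tensorLeft E E' hEq hEq') }
  refine ⟨T', rfl, ?_⟩
  intro n L' q hq hqc v hv
  refine ⟨tens (e' j E n) q hq.symm, rfl, isCart_tens _ (isCart_cartLift _ _) hqc, rfl, ?_⟩
  rw [eqToHom_refl, Category.comp_id]
  change tens (e' j E n) (T.c n) (T.c_base n).symm ≫ ver (E ◁ T.a n) =
    ver ((dPull.{u}.pull (j n)).obj E ◁ v) ≫ tens (e' j E n) q hq.symm
  rw [← tens_id_ver hP, ← tens_id_ver hP, tens_comp hP, tens_comp hP]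
  exact tens_congr _ ((Category.comp_id _).trans (Category.id_comp _).symm) hv

end K225.Twist
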